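import Cfsg.Agent.H788.NB.Fold

/-!
# The unipotent elements centralizing an element of odd prime order of the long root `SL₂` (helper287, for S4526)

`D` one of `G2, D4, F4, E6, E7, E8`, `K` a finite field of characteristic `r`, `θ` the highest root.

* `comm_mem` : `C(h_θ(c)) ≤ T ⟨X b : ⟨b, θ^∨⟩ = 0⟩`, `c` of odd prime order;
* `comm_pow` : an element of `r`-power order commuting with `φ_θ(g)`, `g ∈ SL₂(K)` of odd prime order, lies in
  `⟨X b : ⟨b, θ^∨⟩ = 0⟩`;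
* `zero_pow` : the same in a group `H → D.group K` with a compatible root group datum.
-/

set_option autoImplicit false
set_option linter.unusedSectionVars false

namespace Cfsg.Agent.H287.SC

open CoxeterSystem Cfsg Cfsg.Lie Cfsg.Agent.ChevalleyStructure Cfsg.Agent.ChevalleyStructure.Elts
  Cfsg.Agent.ChevalleyStructure.CoxeterGeom Cfsg.Agent.Tits.Roots Cfsg.Agent.Tits.Core
  Cfsg.Agent.Tits.RootComb Cfsg.Agent.Nodes.Comb Cfsg.Agent.Nodes.Coroot
open Cfsg.Agent.Nodes.Reps Cfsg.Agent.Nodes.BNOf Cfsg.Agent.Nodes.Bruhat Cfsg.Agent.KFacts.RgdPar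
  Cfsg.Agent.Nodes Cfsg.Agent.Nodes.RGDChev Cfsg.Agent.KFacts.RgdChevCoord
  Cfsg.Agent.Nodes.StabComb Cfsg.Agent.Nodes.LeviDec
open Cfsg.Agent.ChevalleyStructure.SL2Hom Cfsg.Agent.ChevalleyStructure.RootVec
open Cfsg.Agent.H92.ExcSL2 Cfsg.Agent.H818.StrP.UTab Cfsg.Agent.H818.StrP.UAct
open Cfsg.Agent.GpExc Cfsg.Agent.H788.NB

universe u v

section Gen

variable {I W Y : Type*} [Fintype I] [DecidableEq I] [Group W] [Group Y] {M : CoxeterMatrix I}
  {cs : CoxeterSystem M W} {A : I → I → ℤ} {h : IsCartan M A} {p : ℕ} {T : Subgroup Y} {n : I → Y}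
  {X : (I → ℤ) → Subgroup Y}

/-- the elements of `p`-power order of `T ⟨X a : a ∈ Ω⟩` -/
theorem mem_Sup_of_pow (R : RGD cs h p T n X) {Ω : Set (I → ℤ)} (hΩ : ∀ x ∈ Ω, IsRoot cs h x) {y : Y}
    (hy : y ∈ PS T X Ω) {k : ℕ} (hk : y ^ p ^ k = 1) : y ∈ RGD.Sup X Ω := by
  set L : Subgroup Y := RGD.Sup X Ω with hL
  have hT : T ≤ Subgroup.normalizer (L : Set Y) := R.T_le_normalizer hΩ
  have h3 : y ∈ ((T ⊔ L : Subgroup Y) : Set Y) := hy
  rw [Subgroup.coe_mul_of_left_le_normalizer_right _ _ hT, Set.mem_mul] at h3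
  obtain ⟨t, ht, l, hl, he⟩ := h3
  set N : Subgroup Y := Subgroup.normalizer (L : Set Y) with hN
  have htN : t ∈ N := hT ht
  have hxN : y ∈ N := by
    rw [← he]; exact mul_mem htN (Subgroup.le_normalizer hl)
  have : (L.subgroupOf N).Normal := Subgroup.normal_in_normalizer
  have e1 : (QuotientGroup.mk ⟨t, htN⟩ : ↥N ⧸ L.subgroupOf N) = QuotientGroup.mk ⟨y, hxN⟩ := by
    rw [QuotientGroup.eq, Subgroup.mem_subgroupOf]
    change t⁻¹ * y ∈ L
    rw [← he, inv_mul_cancel_left]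
    exact hl
  have e2 : orderOf (QuotientGroup.mk ⟨y, hxN⟩ : ↥N ⧸ L.subgroupOf N) ∣ p ^ k := by
    apply orderOf_dvd_of_pow_eq_one
    rw [← QuotientGroup.mk_pow]
    have : (⟨y, hxN⟩ : ↥N) ^ p ^ k = 1 := Subtype.ext hk
    rw [this, QuotientGroup.mk_one]
  have e3 : orderOf (QuotientGroup.mk ⟨y, hxN⟩ : ↥N ⧸ L.subgroupOf N) ∣ Nat.card T := by
    apply orderOf_dvd_of_pow_eq_one
    rw [← e1, ← QuotientGroup.mk_pow]
    have h4 : (⟨t, ht⟩ : ↥T) ^ Nat.card T = 1 := pow_card_eq_one'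
    have : (⟨t, htN⟩ : ↥N) ^ Nat.card T = 1 := Subtype.ext (by
      have h5 := congrArg Subtype.val h4
      rwa [SubgroupClass.coe_pow] at h5)
    rw [this, QuotientGroup.mk_one]
  have e4 : orderOf (QuotientGroup.mk ⟨y, hxN⟩ : ↥N ⧸ L.subgroupOf N) = 1 := by
    have hcp : (p ^ k).Coprime (Nat.card T) := (Nat.Coprime.pow_left k R.tcop.symm)
    exact Nat.dvd_one.1 (hcp ▸ Nat.dvd_gcd e2 e3)
  rw [orderOf_eq_one_iff, QuotientGroup.eq_one_iff, Subgroup.mem_subgroupOf] at e4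
  exact e4

end Gen

section Top

variable {D : ChevalleyDatum} (hH : HiList D) {K : Type u} [Field K]
  {l : ℕ} {M : CoxeterMatrix (Fin l)} (hp : IsType D l M) {W : Type*} [Group W] (cs : CoxeterSystem M W)

theorem ch_ht {c : K} (hc0 : c ≠ 0) {x : Fin l → ℤ} (hx : IsRoot cs hp.isCartan x) :
    ch hp x (ht hH c) = c ^ (x (nd hH hp)) := by
  obtain ⟨s, hs, rfl⟩ := (isRoot_iff hp cs x).1 hx
  apply ch_eq hp hs (ht_mem hH hc0)
  have e : ∀ t : K, xc hp (vec D l s) t = xg hH s t := fun t => Subtype.ext (coe_xc hp hs t)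
  rw [e, e, mul_inv_eq_iff_eq_mul]
  have h1 := ht_mul_xg hH hc0 hs 1
  rw [mul_one] at h1
  exact h1

theorem bound {x : Fin l → ℤ} (hx : IsRoot cs hp.isCartan x) : -2 ≤ x (nd hH hp) ∧ x (nd hH hp) ≤ 2 := by
  obtain ⟨s, hs, rfl⟩ := (isRoot_iff hp cs x).1 hx
  exact ⟨le_rt hH hs, rt_le hH hs⟩

/-- `w` fixes the functional `⟨·, θ^∨⟩` if `n_w` commutes with `h_θ(c)` -/
theorem pull_eq [Finite W] [Finite K] {c : Kˣ} {q : ℕ} (hq : q.Prime) (hq2 : q ≠ 2) (hcq : c ^ q = 1) (hc1 : c ≠ 1)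
    {r : ℕ} [Fact r.Prime] [CharP K r] {w : W} {k : ↥(D.group K)} (hk : Rp cs (rgd (K := K) hp cs r).nsys w k)
    (hkc : k * ht hH (c : K) = ht hH (c : K) * k) (x : Fin l → ℤ) :
    rep cs hp.isCartan w x (nd hH hp) = x (nd hH hp) := by
  have hord : orderOf c = q := by
    have : Fact q.Prime := ⟨hq⟩
    exact orderOf_eq_prime hcq hc1
  have h1 : ∀ y, IsRoot cs hp.isCartan y →
      (q : ℤ) ∣ rep cs hp.isCartan w y (nd hH hp) - y (nd hH hp) := by
    intro y hy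
    have h2 := (coords (K := K) hp cs r).chi_rp (rgd (K := K) hp cs r).nsys hk hy (ht_mem hH c.ne_zero)
    have h3 : k * ht hH (c : K) * k⁻¹ = ht hH (c : K) := by rw [hkc, mul_inv_cancel_right]
    rw [h3, ch_ht hH hp cs c.ne_zero (hy.act w), ch_ht hH hp cs c.ne_zero hy] at h2
    rw [← hord, orderOf_dvd_iff_zpow_eq_one, zpow_sub, mul_inv_eq_one]
    apply Units.ext
    rw [Units.val_zpow_eq_zpow_val, Units.val_zpow_eq_zpow_val]
    exact h2
  have hq3 : 3 ≤ q := by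
    have := hq.two_le
    omega
  have h2 : ∀ i, i ≠ nd hH hp → rep cs hp.isCartan w (sr i) (nd hH hp) = 0 := by
    intro i hi
    have h3 := h1 _ (isRoot_sr cs hp.isCartan i)
    have h4 : (sr i : Fin l → ℤ) (nd hH hp) = 0 := sr_ne fun h => hi h.symm
    rw [h4, sub_zero] at h3
    obtain ⟨b1, b2⟩ := bound hH hp cs ((isRoot_sr cs hp.isCartan i).act w)
    obtain ⟨m, hm⟩ := h3
    have h5 : m = 0 := by
      by_contra hm0
      have : 1 ≤ |m| := Int.one_le_abs hm0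
      have h6 : |rep cs hp.isCartan w (sr i) (nd hH hp)| = q * |m| := by
        rw [hm, abs_mul, Nat.abs_cast]
      have h7 : |rep cs hp.isCartan w (sr i) (nd hH hp)| ≤ 2 := abs_le.2 ⟨b1, b2⟩
      nlinarith
    rw [hm, h5, mul_zero]
  set g := pull cs hp.isCartan (ev (nd hH hp)) w with hg
  have hgs : ∀ y : Fin l → ℤ, g y = y (nd hH hp) * rep cs hp.isCartan w (sr (nd hH hp)) (nd hH hp) := by
    intro y
    rw [map_eq_sum, Finset.sum_eq_single (nd hH hp)]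
    · rfl
    · intro i _ hi
      have : g (sr i) = 0 := h2 i hi
      rw [this, mul_zero]
    · intro h; exact absurd (Finset.mem_univ _) h
  have h3 : rep cs hp.isCartan w (sr (nd hH hp)) (nd hH hp) = 1 := by
    have h4 := h1 _ (isRoot_sr cs hp.isCartan (nd hH hp))
    rw [sr_self] at h4
    obtain ⟨b1, b2⟩ := bound hH hp cs ((isRoot_sr cs hp.isCartan (nd hH hp)).act w)
    have h5 : -2 ≤ g (vec D l (top D)) :=
      (bound hH hp cs ((isRoot_vec hp cs (top_lt hH)).act w)).1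
    have h6 : (vec D l (top D)) (nd hH hp) = 2 := rt_top hH
    rw [hgs, h6] at h5
    obtain ⟨m, hm⟩ := h4
    have h8 : m = 0 := by
      by_contra hm0
      have : 1 ≤ |m| := Int.one_le_abs hm0
      have h6 : |rep cs hp.isCartan w (sr (nd hH hp)) (nd hH hp) - 1| = q * |m| := by
        rw [hm, abs_mul, Nat.abs_cast]
      have h7 : |rep cs hp.isCartan w (sr (nd hH hp)) (nd hH hp) - 1| ≤ 2 := abs_le.2 ⟨by linarith, by linarith⟩
      nlinarith
    rw [h8, mul_zero] at hm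
    linarith
  have h4 := hgs x
  rw [h3, mul_one] at h4
  exact h4

theorem ev_nonneg (i : Fin l) : 0 ≤ ev (nd hH hp) (sr i) := by
  rw [ev_apply]
  exact sr_nonneg i _

/-- the centraliser of `h_θ(c)` -/
theorem comm_mem [Finite W] [Finite K] {c : Kˣ} {q : ℕ} (hq : q.Prime) (hq2 : q ≠ 2) (hcq : c ^ q = 1) (hc1 : c ≠ 1)
    {y : ↥(D.group K)} (hy : y * ht hH (c : K) = ht hH (c : K) * y) :
    y ∈ PS (TT D K) (XX D l K) (Om hp cs hH) := by
  obtain ⟨r, hr, hcp⟩ : ∃ p : ℕ, p.Prime ∧ CharP K p := by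
    obtain ⟨p, hcp⟩ := CharP.exists K
    exact ⟨p, CharP.char_is_prime K p, hcp⟩
  have : Fact r.Prime := ⟨hr⟩
  have R := rgd (K := K) hp cs r
  have hc2 : c ^ 2 ≠ 1 := by
    intro h3
    obtain ⟨j, hj⟩ := hq.odd_of_ne_two hq2
    rw [hj, pow_succ, pow_mul, h3, one_pow, one_mul] at hcq
    exact hc1 hcq
  have hcm : ∀ m : ℤ, m ≠ 0 → -2 ≤ m → m ≤ 2 → (c : K) ^ m ≠ 1 := by
    intro m hm h3 h4 h5
    have h6 : c ^ m = 1 := Units.ext (by rw [Units.val_zpow_eq_zpow_val, h5, Units.val_one])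
    have h7 : m = 1 ∨ m = -1 ∨ m = 2 ∨ m = -2 := by omega
    rcases h7 with rfl | rfl | rfl | rfl
    · exact hc1 (by rwa [zpow_one] at h6)
    · rw [zpow_neg, zpow_one] at h6
      exact hc1 (inv_eq_one.1 h6)
    · exact hc2 (by exact_mod_cast h6)
    · rw [zpow_neg] at h6
      exact hc2 (by exact_mod_cast inv_eq_one.1 h6)
  have hbot : ∀ x, IsRoot cs hp.isCartan x → x ∉ Om hp cs hH →
      XX D l K x ⊓ Subgroup.centralizer ({ht hH (c : K)} : Set ↥(D.group K)) = ⊥ := by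
    intro x hx hx0
    rw [eq_bot_iff]
    intro z hzz
    obtain ⟨hz, hz'⟩ := Subgroup.mem_inf.1 hzz
    obtain ⟨s, hs, rfl⟩ := (isRoot_iff hp cs x).1 hx
    obtain ⟨t, rfl⟩ := (mem_XX hH hp hs).1 hz
    rw [Subgroup.mem_centralizer_singleton_iff] at hz'
    have h1 := ht_mul_xg hH c.ne_zero hs t
    rw [← hz'] at h1
    have h2 : xg hH s t = xg hH s ((c : K) ^ rt D s (node D) * t) := mul_right_cancel h1
    have h3 : t = (c : K) ^ rt D s (node D) * t := xG_injective hH.inList hs (congrArg Subtype.val h2)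
    have hm : rt D s (node D) ≠ 0 := fun h3 => hx0 ⟨hx, h3⟩
    have h5 := hcm _ hm (le_rt hH hs) (rt_le hH hs)
    have h6 : t = 0 := by
      by_contra ht
      apply h5
      have h7 : (1 : K) * t = (c : K) ^ rt D s (node D) * t := by rw [one_mul]; exact h3
      exact (mul_right_cancel₀ ht h7).symm
    rw [h6, Subgroup.mem_bot]
    apply Subtype.ext
    exact xG_zero hH.inList s
  have hle : RGD.Sup (fun x => XX D l K x ⊓ Subgroup.centralizer ({ht hH (c : K)} : Set ↥(D.group K)))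
      (RGD.Pos cs hp.isCartan) ≤ PS (TT D K) (XX D l K) (Om hp cs hH) := by
    refine RGD.Sup_le fun x hx => ?_
    by_cases hx' : x ∈ Om hp cs hH
    · exact le_trans inf_le_left (X_le_PS hx')
    · rw [hbot x hx.1 hx']
      exact bot_le
  obtain ⟨u, hu, w, k, hk, hkc, v, hv, rfl⟩ := NormalForm.mem_centralizer R
    (S := {ht hH (c : K)}) (by rintro _ rfl; exact ht_mem hH c.ne_zero) (g := y)
    (by rw [Cfsg.Agent.KFacts.RgdRigid.GG_eq_top (G1_eq_top hp cs)]; exact Subgroup.mem_top _)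
    (by rw [Subgroup.mem_centralizer_singleton_iff]; exact hy)
  rw [Subgroup.mem_centralizer_singleton_iff] at hkc
  have hpull := pull_eq hH hp cs hq hq2 hcq hc1 (r := r) hk hkc
  have hw : w ∈ WJ cs {i | i ∈ (Set.univ : Set (Fin l)) ∧ ev (nd hH hp) (sr i) = 0} := by
    refine mem_WJ_of_half (h := hp.isCartan) (ev (nd hH hp)) (fun i _ => ev_nonneg hH hp i) (mem_univ' cs w) ?_ ?_
    · intro x _ h0
      rw [ev_apply] at h0 ⊢
      rw [hpull]; exact h0
    · intro x _ h0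
      rw [ev_apply] at h0 ⊢
      rw [← hpull (rep cs hp.isCartan w⁻¹ x), rep_apply_inv]; exact h0
  have hset : {i | i ∈ (Set.univ : Set (Fin l)) ∧ ev (nd hH hp) (sr i) = 0} = {i | ev (nd hH hp) (sr i) = 0} := by
    ext i; simp
  rw [hset] at hw
  have hkL := rp_mem_LJ R hw hk
  have hLJ : LJ cs hp.isCartan (TT D K) (XX D l K) {i | ev (nd hH hp) (sr i) = 0} =
      PS (TT D K) (XX D l K) (Om hp cs hH) := by
    have h1 := rootsJ_eq (cs := cs) (h := hp.isCartan) (f := ev (nd hH hp)) (ev_nonneg hH hp)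
    unfold LJ PS
    rw [h1]
    rfl
  rw [hLJ] at hkL
  exact mul_mem (mul_mem (hle hu) hkL) (hle hv)

/-- **The unipotent elements of the centraliser of an element of odd prime order of the long root `SL₂`.** -/
theorem comm_pow [Finite W] [Finite K] {r : ℕ} [Fact r.Prime] [CharP K r] {q : ℕ} (hq : q.Prime) (hq2 : q ≠ 2) {ζ : K}
    (hζ : IsPrimitiveRoot ζ q) {g : SL2 K} (hg : g ^ q = 1) (hg1 : g ≠ 1) {y : ↥(D.group K)}
    (hy : y * pt hH g = pt hH g * y) {j : ℕ} (hj : y ^ r ^ j = 1) : y ∈ RGD.Sup (XX D l K) (Om hp cs hH) := by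
  obtain ⟨k, c, hcq, hc1, hk⟩ := SLTwo.exists_conj hq hq2 hζ hg hg1
  set ψ := pt (K := K) hH with hψ
  have h3 : ψ k * ψ g * (ψ k)⁻¹ = ht hH (c : K) := by rw [← pt_dg, ← hk, map_mul, map_mul, map_inv]
  have h4 : (ψ k * y * (ψ k)⁻¹) * ht hH (c : K) = ht hH (c : K) * (ψ k * y * (ψ k)⁻¹) := by
    rw [← h3]
    calc ψ k * y * (ψ k)⁻¹ * (ψ k * ψ g * (ψ k)⁻¹) = ψ k * (y * ψ g) * (ψ k)⁻¹ := by group
      _ = ψ k * (ψ g * y) * (ψ k)⁻¹ := by rw [hy]
      _ = _ := by group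
  have h5 := comm_mem hH hp cs hq hq2 hcq hc1 h4
  have h6 := mem_Sup_of_pow (rgd (K := K) hp cs r) (fun x hx => hx.1) h5 (k := j)
    (by rw [conj_pow, hj, mul_one, mul_inv_cancel])
  have h7 := pt_comm hH hp cs k _ h6
  have h8 : y = (ψ k)⁻¹ * ((ψ k * y * (ψ k)⁻¹) * ψ k) := by group
  have h9 : (ψ k)⁻¹ * ((ψ k * y * (ψ k)⁻¹) * ψ k) = ψ k * y * (ψ k)⁻¹ := by
    rw [← h7, inv_mul_cancel_left]
  rw [h8, h9]
  exact h6

end Top

section Over

variable {D : ChevalleyDatum} (hH : HiList D) {K : Type u} [Field K]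
  {l : ℕ} {M : CoxeterMatrix (Fin l)} (hp : IsType D l M) {W : Type*} [Group W] (cs : CoxeterSystem M W)
variable {I' W' H : Type*} [Fintype I'] [DecidableEq I'] [Group W'] [Group H] {M' : CoxeterMatrix I'}
  {cs' : CoxeterSystem M' W'} {A' : I' → I' → ℤ} {h' : IsCartan M' A'} {p' : ℕ} {T' : Subgroup H} {n' : I' → H}
  {X' : (I' → ℤ) → Subgroup H}

/-- **The unipotent elements of the centraliser in a subgroup** `H` of `D.group K` with compatible root group datum. -/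
theorem zero_pow [Finite W] [Finite K] [Finite W'] [Fact p'.Prime] [CharP K p'] (R' : RGD cs' h' p' T' n' X')
    (hG' : GG cs' h' T' X' = ⊤) {φ : H →* ↥(D.group K)} {k' : I'}
    (hc : Over.Comp cs hp.isCartan (TT D K) (XX D l K) cs' h' T' X' φ (ev (nd hH hp)) (ev k'))
    (hc' : Over.Comp cs hp.isCartan (TT D K) (XX D l K) cs' h' T' X' φ (-ev (nd hH hp)) (-ev k'))
    {q : ℕ} (hq : q.Prime) (hq2 : q ≠ 2) {ζ : K} (hζ : IsPrimitiveRoot ζ q)
    {g : SL2 K} (hg : g ^ q = 1) (hg1 : g ≠ 1) {x : H} (hx : φ x = pt hH g) {y : H} (hy : y * x = x * y)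
    {j : ℕ} (hj : y ^ p' ^ j = 1) : y ∈ RGD.Sup X' {a | IsRoot cs' h' a ∧ a k' = 0} := by
  have h1 : φ y * pt hH g = pt hH g * φ y := by rw [← hx, ← map_mul, ← map_mul, hy]
  have h3 := comm_pow hH hp cs hq hq2 hζ hg hg1 h1 (j := j) (by rw [← map_pow, hj, map_one])
  have hOm : φ y ∈ PS (TT D K) (XX D l K) (Om hp cs hH) := Sup_le_PS h3
  refine mem_Sup_of_pow R' (fun x hx => hx.1) ?_ hj
  refine Over.mem_zero (rgd (K := K) hp cs p') R' hc hc' (fun i => ?_) (by rw [hG']; exact Subgroup.mem_top _) ?_ ?_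
  · rw [ev_apply]
    exact sr_nonneg i k'
  · refine PS_mono ?_ hOm
    rintro b ⟨hb, hb0⟩
    exact ⟨hb, by rw [ev_apply, hb0]⟩
  · refine PS_mono ?_ hOm
    rintro b ⟨hb, hb0⟩
    exact ⟨hb, by rw [neg_ev_apply, hb0, _root_.neg_zero]⟩

end Over

end Cfsg.Agent.H287.SC
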