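import Cfsg.Agent.H287.SC.SLU
import Cfsg.Agent.H661.SC.Base
import Cfsg.Agent.H928.Blk.Crit
import Cfsg.Agent.S0174

/-!
# `IMC p G` from a component `SL₂(q)` of the centralizer of an element of order `p` (helper287, for S4526)

* `ratio` : values of the characters over an irreducible character of a normal subgroup;
* `imc_of_sl2` : `x ∈ G` of odd prime order `p`, `p ∣ q² - 1`, `L = η(SL₂(q)) ≤ C(x)`, normalized by `C(x)` and containing
  all elements of order `r ∣ q` of `C(x)`.
-/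

set_option autoImplicit false

open Cfsg
open scoped ComplexConjugate

namespace Cfsg.Agent.H287.SC

open Cfsg.Agent.Characters.Core Cfsg.Agent.Blocks Cfsg.Agent.H625.SylConst Cfsg.Agent.Blocks.Local
open Cfsg.Agent.OddOrderCharacters.NormalInduced Cfsg.Agent.H661.SC

universe u v

/-- **Ratios.** -/
theorem ratio {G : Type u} [Group G] [Finite G] (N : Subgroup G) [hN : N.Normal] [Fintype N] {ξ : G → ℂ}
    (hξ : IsIrrCharacter G ξ) {φ : N → ℂ} (hφ : IsIrrCharacter N φ) (h : classInner (fun n : N => ξ n) φ ≠ 0)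
    {e : ℂ} {n : N} (hn : ∀ g : G, φ ⟨g * n * g⁻¹, hN.conj_mem n n.2 g⟩ = e) :
    ξ n * φ 1 = ξ 1 * e := by
  classical
  have := Fintype.ofFinite G
  have h1 := Cfsg.Agent.S0174.result N hN ξ hξ φ hφ h
  set T : Set (N → ℂ) := {ψ : N → ℂ | ∃ g : G, ψ = fun n : N => φ ⟨g * n * g⁻¹, hN.conj_mem n n.2 g⟩} with hT
  have hTf : T.Finite := by
    have : T = Set.range fun g : G => (fun n : N => φ ⟨g * n * g⁻¹, hN.conj_mem n n.2 g⟩) := by
      ext ψ
      constructor
      · rintro ⟨g, rfl⟩; exact ⟨g, rfl⟩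
      · rintro ⟨g, rfl⟩; exact ⟨g, rfl⟩
    rw [this]
    exact Set.finite_range _
  have hval : ∀ (m : N) (a : ℂ), (∀ g : G, φ ⟨g * m * g⁻¹, hN.conj_mem m m.2 g⟩ = a) →
      ξ m = classInner (fun n : N => ξ n) φ * (hTf.toFinset.card * a) := by
    intro m a hm
    have h2 := congrFun h1 m
    rw [Pi.smul_apply, smul_eq_mul, finsum_mem_eq_finite_toFinset_sum _ hTf, Finset.sum_apply,
      Finset.sum_congr rfl (g := fun _ => a) ?_, Finset.sum_const, nsmul_eq_mul] at h2
    · exact h2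
    · intro ψ hψ
      obtain ⟨g, rfl⟩ := hTf.mem_toFinset.1 hψ
      exact hm g
  have h2 := hval n e hn
  have h3 := hval 1 (φ 1) (fun g => by
    congr 1
    apply Subtype.ext
    show g * ((1 : N) : G) * g⁻¹ = ((1 : N) : G)
    rw [Subgroup.coe_one, mul_one, mul_inv_cancel])
  rw [Subgroup.coe_one] at h3
  rw [h2, h3]
  ring

/-- a character over a given character of a normal subgroup -/
theorem exists_lies {G : Type u} [Group G] [Finite G] (N : Subgroup G) [hN : N.Normal] [Fintype N] {φ : N → ℂ}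
    (hφ : IsIrrCharacter N φ) : ∃ ξ : IrrCharacter G, classInner (fun n : N => (ξ : G → ℂ) n) φ ≠ 0 := by
  classical
  obtain ⟨ξ, h1, -⟩ := exists_over N (⊥ : Subgroup G) hφ (by
    have : Fintype ↥((⊥ : Subgroup G).subgroupOf N) := Fintype.ofFinite _
    have hbot : (⊥ : Subgroup G).subgroupOf N = ⊥ := by
      rw [Subgroup.subgroupOf_eq_bot]
      exact disjoint_bot_left
    have hu : Unique ↥((⊥ : Subgroup G).subgroupOf N) := by
      rw [hbot]
      exact inferInstance
    rw [fix_iff, Fintype.sum_unique]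
    have h2 : ((default : ↥((⊥ : Subgroup G).subgroupOf N)) : N) = 1 := by
      have h3 := (default : ↥((⊥ : Subgroup G).subgroupOf N)).2
      rw [Subgroup.mem_subgroupOf, Subgroup.mem_bot] at h3
      exact Subtype.ext h3
    rw [h2]
    exact isIrr_apply_one_ne_zero hφ)
  exact ⟨ξ, h1⟩

/-- the size of a class modulo `p` -/
theorem index_modEq {G : Type u} [Group G] [Finite G] {p : ℕ} [hp : Fact p.Prime] {x : G}
    (hx : ∃ k : ℕ, orderOf x = p ^ k) (u : G) :
    Nat.card {y : G // IsConj u y ∧ y * x = x * y} ≡ (Subgroup.centralizer ({u} : Set G)).index [MOD p] := by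
  classical
  set Z := Subgroup.centralizer ({u} : Set G) with hZ
  have hZm : ∀ c, c ∈ Z ↔ c * u = u * c := fun c => by rw [hZ, Subgroup.mem_centralizer_singleton_iff]
  have h1 := H928.Blk.card_fixedBy_modEq (X := G ⧸ Z) hx
  have hout : ∀ g : G, ∃ c ∈ Z, (Quotient.out (g : G ⧸ Z) : G) = g * c := by
    intro g
    obtain ⟨c, hc⟩ := QuotientGroup.mk_out_eq_mul Z g
    exact ⟨c, c.2, hc⟩
  have hconj : ∀ g : G, (Quotient.out (g : G ⧸ Z) : G) * u * (Quotient.out (g : G ⧸ Z) : G)⁻¹ = g * u * g⁻¹ := by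
    intro g
    obtain ⟨c, hc, e⟩ := hout g
    rw [e]
    have h2 := (hZm c).1 hc
    calc g * c * u * (g * c)⁻¹ = g * (c * u) * c⁻¹ * g⁻¹ := by group
      _ = g * (u * c) * c⁻¹ * g⁻¹ := by rw [h2]
      _ = _ := by group
  have hfix : ∀ g : G, (g : G ⧸ Z) ∈ MulAction.fixedBy (G ⧸ Z) x ↔ (g * u * g⁻¹) * x = x * (g * u * g⁻¹) := by
    intro g
    rw [MulAction.mem_fixedBy]
    change ((x * g : G) : G ⧸ Z) = (g : G ⧸ Z) ↔ _
    rw [QuotientGroup.eq, hZm]
    constructor
    · intro h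
      have e1 : x * (g * u * g⁻¹) = x * g * (u * ((x * g)⁻¹ * g)) * g⁻¹ * x := by group
      have e2 : x * g * (((x * g)⁻¹ * g) * u) * g⁻¹ * x = (g * u * g⁻¹) * x := by group
      rw [e1, ← h, e2]
    · intro h
      have e1 : (x * g)⁻¹ * g * u = g⁻¹ * x⁻¹ * ((g * u * g⁻¹) * x) * (x⁻¹ * g) := by group
      have e2 : g⁻¹ * x⁻¹ * (x * (g * u * g⁻¹)) * (x⁻¹ * g) = u * ((x * g)⁻¹ * g) := by group
      rw [e1, h, e2]
  have hcard : Nat.card {y : G // IsConj u y ∧ y * x = x * y} = Nat.card (MulAction.fixedBy (G ⧸ Z) x) := by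
    refine (Nat.card_congr (Equiv.ofBijective (fun q : MulAction.fixedBy (G ⧸ Z) x =>
      (⟨(Quotient.out q.1 : G) * u * (Quotient.out q.1 : G)⁻¹, isConj_iff.2 ⟨_, rfl⟩, ?_⟩ :
        {y : G // IsConj u y ∧ y * x = x * y})) ⟨?_, ?_⟩)).symm
    · rw [← hfix, QuotientGroup.out_eq']
      exact q.2
    · rintro ⟨a, ha⟩ ⟨b, hb⟩ hab
      apply Subtype.ext
      have h2 := congrArg Subtype.val hab
      simp only at h2
      change a = b
      rw [← QuotientGroup.out_eq' a, ← QuotientGroup.out_eq' b, QuotientGroup.eq, hZm]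
      calc (Quotient.out a)⁻¹ * Quotient.out b * u = (Quotient.out a)⁻¹ * (Quotient.out b * u * (Quotient.out b)⁻¹) * Quotient.out b := by group
        _ = (Quotient.out a)⁻¹ * (Quotient.out a * u * (Quotient.out a)⁻¹) * Quotient.out b := by rw [h2]
        _ = _ := by group
    · rintro ⟨y, hy, hyx⟩
      obtain ⟨g, hg⟩ := isConj_iff.1 hy
      refine ⟨⟨(g : G ⧸ Z), (hfix g).2 (by rw [hg]; exact hyx)⟩, Subtype.ext ?_⟩
      show (Quotient.out (g : G ⧸ Z) : G) * u * (Quotient.out (g : G ⧸ Z) : G)⁻¹ = y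
      rw [hconj, hg]
  rw [hcard]
  exact h1

section

variable {G : Type u} [Group G] [Finite G] {p : ℕ} [hp : Fact p.Prime]
  {E : Type v} [Field E] [Fintype E] {r : ℕ} [Fact r.Prime] [CharP E r]

local notation "SL" => Matrix.SpecialLinearGroup (Fin 2) E

/-- **The criterion.** -/
theorem imc_of_sl2 (hp2 : p ≠ 2) (hq : 4 ≤ Fintype.card E) (hd : p ∣ Fintype.card E ^ 2 - 1) (η : SL →* G)
    (hinj : Function.Injective η) {x : G} (hx : orderOf x = p) (hc : ∀ v, x * η v = η v * x)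
    (hn : ∀ y, y * x = x * y → ∀ v, y * η v * y⁻¹ ∈ η.range)
    (hu : ∀ y, y * x = x * y → orderOf y = r → y ∈ η.range) : IMC p G := by
  classical
  have : Fintype G := Fintype.ofFinite G
  obtain ⟨M, hM⟩ := Cfsg.Agent.Blocks.Knorr.exists_isPModular p
  have hMp : M.IsPrime := isPrime_of_isPModular hM
  obtain ⟨φ, d, d', e, he, hφ1, hdd, hd', hφv⟩ := SLU.exists_char (F := E) hq (r := r) hp.out hp2 hd
  -- the unipotent element
  set u₀ : SL := Cfsg.Agent.H984.SLTwo.upp 1 1 with hu₀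
  have hu₀r : orderOf u₀ = r := Cfsg.Agent.H984.SLTwo.orderOf_upp_one r one_ne_zero
  have hord : ∀ v : SL, orderOf (η v) = orderOf v := fun v => orderOf_injective η hinj v
  set D : Subgroup G := Subgroup.zpowers x with hD
  set C : Subgroup G := Subgroup.centralizer (D : Set G) with hC
  have hmem : ∀ y, y ∈ C ↔ y * x = x * y := by
    intro y
    constructor
    · intro h
      exact (Subgroup.mem_centralizer_iff.1 h x (Subgroup.mem_zpowers x)).symm
    · intro h
      rw [hC, Subgroup.mem_centralizer_iff]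
      rintro _ ⟨k, rfl⟩
      exact ((show Commute y x from h).zpow_right k).eq.symm
  have hDp : IsPGroup p D := IsPGroup.of_card (n := 1) (by rw [Nat.card_zpowers, hx, pow_one])
  have hηC : ∀ v, η v ∈ C := fun v => (hmem _).2 (hc v).symm
  set N : Subgroup C := η.range.subgroupOf C with hN
  have hNn : N.Normal := by
    constructor
    intro n hn' g
    rw [hN, Subgroup.mem_subgroupOf] at hn' ⊢
    obtain ⟨v, hv⟩ := hn'
    have h1 := hn g ((hmem _).1 g.2) v
    rw [hv] at h1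
    exact h1
  have hτmem : ∀ v : SL, (⟨η v, hηC v⟩ : C) ∈ N := fun v => by
    rw [hN, Subgroup.mem_subgroupOf]
    exact ⟨v, rfl⟩
  let τ₀ : SL →* N :=
    { toFun := fun v => ⟨⟨η v, hηC v⟩, hτmem v⟩
      map_one' := by
        apply Subtype.ext; apply Subtype.ext; exact map_one η
      map_mul' := fun a b => by
        apply Subtype.ext; apply Subtype.ext; exact map_mul η a b }
  have hτ₀ : Function.Bijective τ₀ := by
    constructor
    · intro a b hab
      exact hinj (congrArg (fun n : N => ((n : C) : G)) hab)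
    · rintro ⟨⟨y, hy⟩, hyN⟩
      rw [hN, Subgroup.mem_subgroupOf] at hyN
      obtain ⟨v, hv⟩ := hyN
      exact ⟨v, Subtype.ext (Subtype.ext hv)⟩
  let τ : SL ≃* N := MulEquiv.ofBijective τ₀ hτ₀
  have hτ : ∀ v, (((τ v : N) : C) : G) = η v := fun v => rfl
  have hτs : ∀ n : N, η (τ.symm n) = ((n : C) : G) := fun n => by rw [← hτ, τ.apply_symm_apply]
  set φ' : N → ℂ := (φ : SL → ℂ) ∘ τ.symm.toMonoidHom with hφ'
  have hφ'irr : IsIrrCharacter N φ' := isIrr_comp τ.symm.toMonoidHom τ.symm.surjective φ.2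
  have hφ'val : ∀ n : N, orderOf ((n : C) : G) = r → φ' n = e := by
    intro n hn'
    refine hφv _ ?_
    rw [← hord]
    show orderOf (η (τ.symm n)) = r
    rw [hτs, hn']
  obtain ⟨ξ, hξ⟩ := exists_lies N hφ'irr
  have hξ1 : (ξ : C → ℂ) 1 ≠ 0 := isIrr_apply_one_ne_zero ξ.2
  have hd0 : (d : ℂ) ≠ 0 := by
    rw [← hφ1]; exact isIrr_apply_one_ne_zero φ.2
  have hφ'1 : φ' 1 = d := by
    show (φ : SL → ℂ) (τ.symm 1) = d
    rw [map_one, hφ1]
  -- the elements of the class of `u` in `C`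
  set S : Set C := {h : C | IsConj (η u₀) (h : G) ∧ (h : G) ∈ Subgroup.centralizer (D : Set G)} with hS
  have hSr : ∀ h ∈ S, orderOf (h : G) = r := by
    intro h hh
    rw [← Cfsg.Agent.H984.SLTwo.orderOf_of_isConj hh.1, hord, hu₀r]
  have hSN : ∀ h ∈ S, h ∈ N := by
    intro h hh
    rw [hN, Subgroup.mem_subgroupOf]
    exact hu _ ((hmem _).1 h.2) (hSr h hh)
  have hξS : ∀ h ∈ S, (ξ : C → ℂ) h / (ξ : C → ℂ) 1 = e / d := by
    intro h hh
    have h1 := ratio N ξ.2 hφ'irr hξ (n := ⟨h, hSN h hh⟩) (e := e) (fun g => hφ'val _ (by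
      have h2 : orderOf (g * h * g⁻¹ : C) = orderOf h := by
        exact Cfsg.Agent.H984.SLTwo.orderOf_of_isConj (isConj_iff.2 ⟨g, rfl⟩) |>.symm
      show orderOf (((g * h * g⁻¹ : C)) : G) = r
      rw [Subgroup.orderOf_coe, h2, ← Subgroup.orderOf_coe, hSr h hh]))
    rw [hφ'1] at h1
    rw [div_eq_div_iff hξ1 hd0, h1, mul_comm]
  -- the number of elements
  set S' : Set SL := {v : SL | IsConj (η u₀) (η v)} with hS'
  obtain ⟨k, hk, hcard⟩ := SLU.two_mul_card (F := E) (r := r) (S := S') (fun v hv => by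
      rw [← hord, ← Cfsg.Agent.H984.SLTwo.orderOf_of_isConj (show IsConj (η u₀) (η v) from hv), hord, hu₀r])
    (fun v hv g => by
      show IsConj (η u₀) (η (g * v * g⁻¹))
      refine (show IsConj (η u₀) (η v) from hv).trans (isConj_iff.2 ⟨η g, ?_⟩)
      rw [map_mul, map_mul, map_inv])
    ⟨u₀, IsConj.refl _⟩
  have hSS : Nat.card S = Nat.card S' := by
    refine (Nat.card_congr (Equiv.ofBijective (fun v : S' => (⟨⟨η v, hηC v⟩, ⟨v.2, hηC v⟩⟩ : S)) ⟨?_, ?_⟩)).symm
    · intro a b hab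
      exact Subtype.ext (hinj (congrArg (fun n : S => ((n : C) : G)) hab))
    · rintro ⟨h, hh⟩
      have h1 := hSN h hh
      rw [hN, Subgroup.mem_subgroupOf] at h1
      obtain ⟨v, hv⟩ := h1
      have h2 : IsConj (η u₀) (η v) := by
        rw [hv]; exact hh.1
      exact ⟨⟨v, h2⟩, Subtype.ext (Subtype.ext hv)⟩
  have hp3 : 3 ≤ p := by
    have := hp.out.two_le
    omega
  have hval : brauerCentralChar D C (ξ : C → ℂ) (η u₀) = (Nat.card S' : ℂ) * (e / d) := by
    rw [Basic.brauerCentralChar_def]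
    change ∑ᶠ h ∈ S, (ξ : C → ℂ) h / (ξ : C → ℂ) 1 = _
    rw [finsum_mem_congr rfl hξS, finsum_mem_eq_finite_toFinset_sum _ (Set.toFinite S), Finset.sum_const,
      nsmul_eq_mul, ← hSS, Nat.card_coe_set_eq, Set.ncard_eq_toFinset_card _ (Set.toFinite S)]
  refine imc_of_brauer hM (D := D) (H := C) hDp le_rfl ?_ ξ.2 (u := η u₀) ?_ ?_
  · exact Subgroup.centralizer_le_normalizer _
  · rw [hval]
    intro hmemM
    have h1 : MemLocalIdeal M ((d' * k : ℕ) : ℂ) := by
      have h2 : ((d' * k : ℕ) : ℂ) = (Nat.card S' : ℂ) * (e / d) * ((2 : ℕ) * e) := by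
        have h3 : (2 * Nat.card S' : ℂ) = ((d * d' * k : ℕ) : ℂ) := by
          rw [hdd, ← hcard]; push_cast; rfl
        have h4 : e * e = 1 := by rcases he with rfl | rfl <;> ring
        have h5 : (Nat.card S' : ℂ) * (e / d) * ((2 : ℕ) * e) = (2 * Nat.card S' : ℂ) * (e * e) / d := by
          push_cast
          ring
        rw [h5, h3, h4]
        push_cast
        field_simp
      rw [h2]
      refine memLocalIdeal_mul_right hmemM ?_
      refine memLocalRing_mul (memLocalRing_natCast 2) ?_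
      rcases he with rfl | rfl
      · exact_mod_cast memLocalRing_natCast 1
      · exact memLocalRing_neg (by exact_mod_cast memLocalRing_natCast 1)
    rw [memLocalIdeal_natCast_iff hM, hp.out.dvd_mul] at h1
    rcases h1 with h1 | h1
    · exact hd' h1
    · have := Nat.le_of_dvd (by omega) h1
      omega
  · -- the class of `u` has order divisible by `p`
    have h1 := index_modEq (p := p) (x := x) ⟨1, by rw [pow_one, hx]⟩ (η u₀)
    have h2 : Nat.card {y : G // IsConj (η u₀) y ∧ y * x = x * y} = Nat.card S := by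
      refine Nat.card_congr ⟨fun y => ⟨⟨y.1, (hmem _).2 y.2.2⟩, y.2.1, (hmem _).2 y.2.2⟩,
        fun h => ⟨(h : C), h.2.1, (hmem _).1 (h : C).2⟩, fun y => rfl, fun h => rfl⟩
    have h3 : p ∣ Nat.card S := by
      have h4 : p ∣ 2 * Nat.card S := by
        rw [hSS, hcard]
        exact hd.mul_right _
      rcases hp.out.dvd_mul.1 h4 with h5 | h5
      · have := Nat.le_of_dvd (by norm_num) h5
        omega
      · exact h5
    rw [h2] at h1
    exact (Nat.modEq_zero_iff_dvd.1 (h1.symm.trans (Nat.modEq_zero_iff_dvd.2 h3)))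

end

end Cfsg.Agent.H287.SC
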