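import Cfsg.Agent.H287.SC.Cent
import Cfsg.Agent.H287.SC.Local
import Cfsg.Agent.H788.NB.TwD4
import Cfsg.Agent.H428.NBL.SLK

/-!
# `IMC p ³D₄(q)`, `p ∣ q² - 1` odd (helper287, for S4526)
-/

set_option autoImplicit false
set_option linter.unusedSectionVars false

namespace Cfsg.Agent.H287.SC

open CoxeterSystem Cfsg Cfsg.Lie Cfsg.Agent.ChevalleyStructure Cfsg.Agent.ChevalleyStructure.Elts
  Cfsg.Agent.ChevalleyStructure.TwistedU
  Cfsg.Agent.ChevalleyStructure.CoxeterGeom Cfsg.Agent.Tits.Roots Cfsg.Agent.Tits.Core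
  Cfsg.Agent.Tits.RootComb Cfsg.Agent.Nodes.Comb Cfsg.Agent.Nodes.Coroot
open Cfsg.Agent.Nodes.Reps Cfsg.Agent.Nodes.BNOf Cfsg.Agent.Nodes.Bruhat Cfsg.Agent.KFacts.RgdPar
  Cfsg.Agent.Nodes Cfsg.Agent.Nodes.RGDChev Cfsg.Agent.KFacts.RgdChevCoord
  Cfsg.Agent.Nodes.RGDTwGen Cfsg.Agent.Nodes.RGDFold Cfsg.Agent.Nodes.RGDFoldSL Cfsg.Agent.Nodes.RGDTwCoord
open Cfsg.Agent.ChevalleyStructure.SL2Hom Cfsg.Agent.ChevalleyStructure.RootVec
open Cfsg.Agent.H92.ExcSL2 Cfsg.Agent.H818.StrP.UTab Cfsg.Agent.H818.StrP.UAct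
open Cfsg.Agent.GpExc Cfsg.Agent.H788.NB Cfsg.Agent.H625.SylConst

universe u v

section Fold

variable {D : ChevalleyDatum} {l : ℕ} {M' : CoxeterMatrix (Fin l)} {hp : IsType D l M'} {K : Type} [Field K]
  {m : ℕ} {M : CoxeterMatrix (Fin m)} {A : Fin m → Fin m → ℤ}
  {J : Fin m → List (Fin l)} {L : List (List ℕ)} {σ : GL D.Idx K →* GL D.Idx K} {ρ ρ' : ℕ → ℕ}
    {f : ℕ → K → K} {G : Subgroup (GL D.Idx K)}
  (FG : FoldGrp hp K J L σ ρ ρ' f G)

variable {W : Type*} [Group W] (cs : CoxeterSystem M W) (h : IsCartan M A)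

include FG in
/-- the elements of `r`-power order of the centraliser of an element of odd prime order of the long root `SL₂` -/
theorem fold_pow [Finite K] {r : ℕ} [Fact r.Prime] [CharP K r] (hH : HiList D) (FD : FoldData D M A J L) {k' : Fin m}
    (hV : ∀ r < D.nroots, V D J r k' = rt D r (node D)) {q : ℕ} (hq : q.Prime) (hq2 : q ≠ 2)
    (hqK : (q : K) ≠ 0) {g : SL2 K} (hg : g ^ q = 1) (hg1 : g ≠ 1) {x : ↥G}
    (hx : (x : GL D.Idx K) = phi (SL2All.good_of_mem D hp.inList (top D) (top_lt hH)) K g) {y : ↥G}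
    (hy : y * x = x * y) {j : ℕ} (hj : y ^ r ^ j = 1) :
    y ∈ RGD.Sup (fun z => (R D hp K J σ z).subgroupOf G) {a | IsRoot cs h a ∧ a k' = 0} := by
  let cs' : CoxeterSystem M' M'.Group := M'.toCoxeterSystem
  have : Finite M'.Group := RGDChev.finite_W hp cs'
  have : Finite W := Cfsg.Agent.Nodes.RGDFold.finite_W (hp := hp) cs h FD
  have R' := Cfsg.Agent.Nodes.RGDFold.rgd cs h FD FG r
  have hGG := Cfsg.Agent.KFacts.RgdRigid.GG_eq_top (cs := cs) (h := h) (T := (D.diagonalSubgroup K ⊓ G).subgroupOf G)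
    (X := fun z => (Cfsg.Agent.Nodes.RGDFold.R D hp K J σ z).subgroupOf G)
    (Cfsg.Agent.Nodes.RGDFold.G1_eq_top cs h FD FG r)
  obtain ⟨K', _, _, ι, ζ, hζ⟩ := exists_ext K hq hqK
  have : CharP K' r := (RingHom.charP_iff ι ι.injective r).1 inferInstance
  -- the image of `x`
  set g' : SL2 K' := Matrix.SpecialLinearGroup.map ι g with hg'
  have hinj := Rank.map_injective (F := K) (K := K') ι
  have hg'q : g' ^ q = 1 := by rw [hg', ← map_pow, hg, map_one]
  have hg'1 : g' ≠ 1 := fun h1 => hg1 (hinj (by rw [map_one]; exact h1))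
  have hphi : ∀ g : SL2 K, Field.glMap D ι (phi (SL2All.good_of_mem D hp.inList (top D) (top_lt hH)) K g) =
      phi (SL2All.good_of_mem D hp.inList (top D) (top_lt hH)) K' (Matrix.SpecialLinearGroup.map ι g) := by
    intro g
    have h1 : Subgroup.closure (Set.range (up (F := K)) ∪ Set.range (lo (F := K))) ≤
        MonoidHom.eqLocus ((Field.glMap D ι).comp (phi (SL2All.good_of_mem D hp.inList (top D) (top_lt hH)) K))
          ((phi (SL2All.good_of_mem D hp.inList (top D) (top_lt hH)) K').comp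
            (Matrix.SpecialLinearGroup.map ι)) := by
      rw [Subgroup.closure_le]
      rintro _ (⟨t, rfl⟩ | ⟨t, rfl⟩)
      · show Field.glMap D ι (phi (SL2All.good_of_mem D hp.inList (top D) (top_lt hH)) K (up t)) =
          phi (SL2All.good_of_mem D hp.inList (top D) (top_lt hH)) K' (Matrix.SpecialLinearGroup.map ι (up t))
        rw [Rank.map_up, phi_up hp.inList (top_lt hH), phi_up hp.inList (top_lt hH), Field.glMap_xG]
      · show Field.glMap D ι (phi (SL2All.good_of_mem D hp.inList (top D) (top_lt hH)) K (lo t)) =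
          phi (SL2All.good_of_mem D hp.inList (top D) (top_lt hH)) K' (Matrix.SpecialLinearGroup.map ι (lo t))
        rw [Rank.map_lo, phi_lo hp.inList (top_lt hH), phi_lo hp.inList (top_lt hH), Field.glMap_xG]
    exact h1 (mem_closure_SL2 g)
  have hxφ : toK FG ι x = pt hH g' := by
    apply Subtype.ext
    rw [coe_toK, hx, hphi]
    rfl
  have hVev : ∀ k < D.nroots, ev (nd hH hp) (vec D l k) = ev k' (V D J k) := by
    intro k hk
    rw [ev_apply, ev_apply, hV k hk]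
    rfl
  exact zero_pow hH hp cs' R' hGG (comp FG ι cs' cs h _ _ hVev)
    (comp FG ι cs' cs h _ _ fun k hk => congrArg Neg.neg (hVev k hk)) hq hq2 hζ hg'q hg'1 hxφ hy hj

end Fold

namespace TwD4

open Cfsg.Agent.H788.NB.TwD4

variable {K : Type} [Field K] [Fintype K] {q : ℕ} {φ : K →+* K}

theorem cart : ∀ j ∈ RGDTwD4.J 1, chevD4.cartan ((j : Fin 4) : ℕ) 14 = -1 := by decide +kernel

theorem len : (RGDTwD4.J 1).length = 3 := by decide +kernel

theorem wt_neg_one (φ : K →+* K) : wt chevD4 φ (RGDTwD4.J 1) 14 (-1 : K) = -1 := by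
  have key : ∀ o : List (Fin 4), (∀ j ∈ o, chevD4.cartan ((j : Fin 4) : ℕ) 14 = -1) →
      wt chevD4 φ o 14 (-1 : K) = (-1) ^ o.length := by
    intro o
    induction o with
    | nil => intro _; show (1 : K) = (-1) ^ 0; rw [pow_zero]
    | cons j o ih =>
      intro ho
      show (-1 : K) ^ chevD4.cartan j 14 * wt chevD4 φ o 14 (φ (-1)) = _
      rw [map_neg, map_one, ih fun s hs => ho s (List.mem_cons_of_mem _ hs), ho j List.mem_cons_self,
        List.length_cons, pow_succ, zpow_neg, zpow_one, inv_neg, inv_one]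
      ring
  rw [key _ cart, len]
  norm_num

theorem neg_one_sl {F : Type*} [Field F] (h : (1 : F) = -1) : (-1 : Matrix.SpecialLinearGroup (Fin 2) F) = 1 := by
  apply Subtype.ext
  rw [Matrix.SpecialLinearGroup.coe_neg, Matrix.SpecialLinearGroup.coe_one]
  refine Matrix.ext fun i j => ?_
  rw [Matrix.neg_apply, Matrix.one_apply]
  split_ifs
  · exact h.symm
  · exact neg_zero

/-- the root of the last node -/
theorem inj_one (hφ : ∀ x, φ x = x ^ q) (hle : twistedD4 K q ≤ D4Fixed.fix φ)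
    (hf : ∀ i, ∀ s ∈ Cfsg.Agent.Nodes.RGDTwNode.D4.rep i :: Cfsg.Agent.Nodes.RGDTwNode.D4.rest i, ∀ t : K,
      ((Cfsg.Agent.Nodes.RGDTwD4.eps s : ℤ) : K) * φ t = φ t)
    (hE3 : 3 < Nat.card ↥(Fx φ ((Cfsg.Agent.Nodes.RGDTwNode.D4.rest 1).length + 1))) :
    Function.Injective (Phi (Cfsg.Agent.Nodes.RGDTwD4.foldGrp (K := K) hφ hle)
      (Cfsg.Agent.Nodes.RGDTwNode.D4.nodeOK 1) (hf 1)) := by
  set FG := Cfsg.Agent.Nodes.RGDTwD4.foldGrp (K := K) hφ hle
  have N := Cfsg.Agent.Nodes.RGDTwNode.D4.nodeOK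
  rw [injective_iff_map_eq_one]
  intro v hv
  have hu1 : Phi FG (N 1) (hf 1) (up 1) ≠ 1 := by
    intro h1
    have h2 : Phi FG (N 1) (hf 1) (up 1) = Phi FG (N 1) (hf 1) (up 0) := by
      have : (up 0 : Matrix.SpecialLinearGroup (Fin 2) ↥(Fx φ ((Cfsg.Agent.Nodes.RGDTwNode.D4.rest 1).length + 1))) =
          1 := by
        apply Subtype.ext
        ext i j
        fin_cases i <;> fin_cases j <;> rfl
      rw [this, map_one]; exact h1
    exact one_ne_zero (Phi_up_injective FG (N 1) (hf 1) h2)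
  rcases H428.NBL.ker_sl hE3 hu1 v hv with h1 | h1
  · exact h1
  · have hneg : (-1 : K) ≠ 0 := neg_ne_zero.2 one_ne_zero
    have hd : φ^[(Cfsg.Agent.Nodes.RGDTwNode.D4.rest 1).length + 1] (-1 : K) = -1 := by
      show φ (φ (φ (-1))) = -1
      rw [map_neg, map_one, map_neg, map_one, map_neg, map_one]
    set d : ↥(Fx φ ((Cfsg.Agent.Nodes.RGDTwNode.D4.rest 1).length + 1)) := ⟨-1, mem_Fx.2 hd⟩ with hdd
    have hd1 : d = -1 := Subtype.ext rfl
    have hS1 : hS d = v := by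
      rw [h1, hd1]
      apply Subtype.ext
      rw [coe_hS (neg_ne_zero.2 one_ne_zero)]
      ext i j
      fin_cases i <;> fin_cases j <;> simp
    have h2 : ((Phi FG (N 1) (hf 1) (hS d) : ↥(twistedD4 K q)) : GL chevD4.Idx K) =
        hI RGDTwD4.hp φ (RGDTwD4.J 1) (-1) := by
      show RGDFoldSL.Ph RGDTwD4.hp K (N 1) φ (Matrix.SpecialLinearGroup.map _ (hS _)) = _
      rw [map_hS]
      exact hv_eq_hI (N 1).Jn (N 1).lt _
    rw [hS1, hv] at h2
    have h3 := hI_conj (hp := RGDTwD4.hp) (φ := φ) (RGDTwD4.J 1) (s := 14) (by decide) hneg (1 : K)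
    rw [← h2, wt_neg_one] at h3
    have h4 : xG RGDTwD4.hp.inList 14 (1 : K) = xG RGDTwD4.hp.inList 14 (-1 * 1 : K) := by
      rw [← h3]
      simp
    have h5 : (1 : K) = -1 * 1 := xG_injective RGDTwD4.hp.inList (by decide) h4
    have h6 : (1 : ↥(Fx φ ((Cfsg.Agent.Nodes.RGDTwNode.D4.rest 1).length + 1))) = -1 := by
      apply Subtype.ext
      rw [mul_one] at h5
      exact h5
    rw [h1]
    exact neg_one_sl h6

/-- **`p ∣ q² - 1` odd** -/
theorem imc_tor {p : ℕ} [hp : Fact p.Prime] (hp2 : p ≠ 2) (hq : IsPrimePow q) (hK : Fintype.card K = q ^ 3)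
    (hpq : p ∣ q ^ 2 - 1) : IMC p ↥(twistedD4 K q) := by
  classical
  obtain ⟨φ, hφ⟩ := D4Fixed.exists_frob hq hK
  have hf : ∀ i, ∀ s ∈ Cfsg.Agent.Nodes.RGDTwNode.D4.rep i :: Cfsg.Agent.Nodes.RGDTwNode.D4.rest i, ∀ t : K,
      ((Cfsg.Agent.Nodes.RGDTwD4.eps s : ℤ) : K) * φ t = φ t := fun i s hs t => by
    rw [Cfsg.Agent.Nodes.RGDTwNode.D4.eps_one i s hs, Int.cast_one, one_mul]
  have hq1 : 1 < q := hq.one_lt
  obtain ⟨r, hr, hcp⟩ : ∃ p : ℕ, p.Prime ∧ CharP K p := by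
    obtain ⟨p, hcp⟩ := CharP.exists K
    exact ⟨p, CharP.char_is_prime K p, hcp⟩
  have : Fact r.Prime := ⟨hr⟩
  let cs : CoxeterSystem CoxeterMatrix.G₂ CoxeterMatrix.G₂.Group := CoxeterMatrix.G₂.toCoxeterSystem
  have hle := D4Fixed.twisted_le_fix (K := K) hK hφ
  set FG := Cfsg.Agent.Nodes.RGDTwD4.foldGrp (K := K) hφ hle with hFG
  have FD := Cfsg.Agent.Nodes.RGDTwD4.foldData
  have N := Cfsg.Agent.Nodes.RGDTwNode.D4.nodeOK
  have h := Cfsg.Agent.Nodes.RGDTwD4.isCartan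
  have hT := Cfsg.Agent.Nodes.RGDTwD4.hp
  -- `p` is not the characteristic
  have hrK : r ∣ q := by
    have h1 : r ∣ Fintype.card K := by
      obtain ⟨n, -, hn⟩ := FiniteField.card K r
      rw [hn]
      exact dvd_pow_self r n.ne_zero
    rw [hK] at h1
    exact hr.dvd_of_dvd_pow h1
  have hpr : (p : K) ≠ 0 := by
    intro h0
    have h1 : r ∣ p := (CharP.cast_eq_zero_iff K r p).1 h0
    have h2 : r = p := (Nat.prime_dvd_prime_iff_eq hr hp.out).1 h1
    have h3 : p ∣ q ^ 2 := (h2 ▸ hrK).trans (dvd_pow_self q two_ne_zero)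
    have h4 : p ∣ 1 := by
      have h5 := Nat.dvd_sub h3 hpq
      have h6 : 0 < q ^ 2 := by positivity
      rwa [Nat.sub_sub_self h6] at h5
    exact hp.out.one_lt.ne' (Nat.dvd_one.1 h4)
  -- the element of order `p`
  let _ : Fintype ↥(F0 φ) := Fintype.ofFinite _
  obtain ⟨g₀, hg₀⟩ := exists_order (F := ↥(F0 φ)) hp.out (by rw [card_F0 hφ hq1 hK]; exact hpq)
  set g : SL2 K := Matrix.SpecialLinearGroup.map (F0 φ).subtype g₀ with hg
  have hgo : orderOf g = p := by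
    rw [hg, orderOf_injective _ (Rank.map_injective (F0 φ).subtype), hg₀]
  have hgp : g ^ p = 1 := by rw [← hgo]; exact pow_orderOf_eq_one g
  have hg1 : g ≠ 1 := fun h1 => by
    rw [h1, orderOf_one] at hgo
    exact hp.out.one_lt.ne hgo
  let x : ↥(twistedD4 K q) := ⟨_, phi_mem hφ g₀⟩
  have hxo : orderOf x = p := by
    rw [← Subgroup.orderOf_coe]
    have h1 := orderOf_ph (F := K) hH.inList (top_lt hH) g (by rw [hgo]; exact hp.out.odd_of_ne_two hp2)
    rw [← Subgroup.orderOf_coe, hgo] at h1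
    exact h1
  obtain ⟨h1, h2⟩ := norm_fold (hp := hT) FG cs h hH FD (k' := 0) hV hp.out hp2 hpr hgp hg1 (x := x) rfl
  have h3 : ∀ y : ↥(twistedD4 K q), y * x = x * y → y ^ r ^ 1 = 1 → _ := fun y hy hj =>
    fold_pow (hp := hT) (r := r) FG cs h hH FD (k' := 0) hV hp.out hp2 hpr hgp hg1 (x := x) rfl hy hj
  -- the subgroup
  have hsr1 := isRoot_sr cs h (1 : Fin 2)
  have hnsr1 : IsRoot cs h (-sr 1) := hsr1.neg
  have hsup : RGD.Sup (fun z => (R chevD4 hT K RGDTwD4.J (D4Fixed.sig φ) z).subgroupOf (twistedD4 K q))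
      {a | IsRoot cs h a ∧ a 0 = 0} =
      (R chevD4 hT K RGDTwD4.J (D4Fixed.sig φ) (sr 1)).subgroupOf (twistedD4 K q) ⊔
      (R chevD4 hT K RGDTwD4.J (D4Fixed.sig φ) (-sr 1)).subgroupOf (twistedD4 K q) := by
    apply le_antisymm
    · refine RGD.Sup_le ?_
      rintro a ⟨ha, ha0⟩
      obtain ⟨s, hs, rfl⟩ := (FD.isRoot_iff hT.checked (fun i r hr => wp_lt hT (RGDTwD4.J i) hr) a).1 ha
      rcases zero_check s hs ha0 with h3 | h3
      · rw [h3]; exact le_sup_left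
      · rw [h3]; exact le_sup_right
    · refine sup_le ?_ ?_
      · exact RGD.le_Sup (X := fun z => (R chevD4 hT K RGDTwD4.J (D4Fixed.sig φ) z).subgroupOf (twistedD4 K q))
          (show sr 1 ∈ {a | IsRoot cs h a ∧ a 0 = 0} from ⟨hsr1, sr1.1⟩)
      · exact RGD.le_Sup (X := fun z => (R chevD4 hT K RGDTwD4.J (D4Fixed.sig φ) z).subgroupOf (twistedD4 K q))
          (show -sr 1 ∈ {a | IsRoot cs h a ∧ a 0 = 0} from ⟨hnsr1, sr1.2⟩)
  have hrange := H280.ObTwE.range_eq FG N hf 1 cs h FD r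
  rw [hsup, ← hrange] at h1 h2
  have h3' : ∀ y : ↥(twistedD4 K q), y * x = x * y → y ^ r ^ 1 = 1 → y ∈ (Phi FG (N 1) (hf 1)).range := by
    intro y hy hj
    have h4 := h3 y hy hj
    rw [hsup, ← hrange] at h4
    exact h4
  -- `SL₂(q³)`
  have hφ3 : ∀ x : K, φ^[3] x = x := fun t => by
    show φ (φ (φ t)) = t
    rw [hφ, hφ, hφ, ← pow_mul, ← pow_mul]
    have : q * (q * q) = q ^ 3 := by ring
    rw [this, ← hK]
    exact FiniteField.pow_card t
  let E := Fx φ ((Cfsg.Agent.Nodes.RGDTwNode.D4.rest 1).length + 1)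
  have htop : ∀ x : K, x ∈ E := fun x => mem_Fx.2 (hφ3 x)
  let _ : Fintype E := Fintype.ofFinite _
  have hcardE : Fintype.card E = q ^ 3 := by
    rw [← hK]; exact Fintype.card_congr (Equiv.subtypeUnivEquiv htop)
  have hE8 : 2 ^ 3 ≤ Fintype.card E := by
    rw [hcardE]
    exact Nat.pow_le_pow_left hq1 3
  have hcE : CharP E r := (RingHom.charP_iff E.subtype E.subtype.injective r).2 inferInstance
  have hinj := inj_one (K := K) (q := q) (φ := φ) hφ hle hf (by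
    show 3 < Nat.card ↥E
    rw [Nat.card_eq_fintype_card]; omega)
  have hdE : p ∣ Fintype.card E ^ 2 - 1 := by
    rw [hcardE, ← pow_mul]
    have h5 : q ^ (3 * 2) = (q ^ 2) ^ 3 := by ring
    rw [h5]
    exact hpq.trans (by simpa using Nat.sub_dvd_pow_sub_pow (q ^ 2) 1 3)
  refine imc_of_sl2 (E := ↥E) (r := r) hp2 (by omega) hdE (Phi FG (N 1) (hf 1)) hinj hxo ?_ ?_ ?_
  · intro v
    exact h1 _ ⟨v, rfl⟩
  · intro y hy v
    exact h2 y hy _ ⟨v, rfl⟩
  · intro y hy hyr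
    exact h3' y hy (by rw [pow_one, ← hyr, pow_orderOf_eq_one])

end TwD4

end Cfsg.Agent.H287.SC
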