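import Cfsg.Agent.H287.SC.Cent
import Cfsg.Agent.H287.SC.Local
import Cfsg.Agent.H428.NBL.Chev

/-!
# `IMC p G₂(q)`, `p ∣ q² - 1` odd, `q ≥ 4` (helper287, for S4526)
-/

set_option autoImplicit false
set_option linter.unusedSectionVars false

namespace Cfsg.Agent.H287.SC

open CoxeterSystem Cfsg Cfsg.Lie Cfsg.Agent.ChevalleyStructure Cfsg.Agent.ChevalleyStructure.Elts
  Cfsg.Agent.ChevalleyStructure.CoxeterGeom Cfsg.Agent.Tits.Roots Cfsg.Agent.Tits.Core
  Cfsg.Agent.Tits.RootComb Cfsg.Agent.Nodes.Comb Cfsg.Agent.Nodes.Coroot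
open Cfsg.Agent.Nodes.Reps Cfsg.Agent.Nodes.BNOf Cfsg.Agent.Nodes.Bruhat Cfsg.Agent.KFacts.RgdPar
  Cfsg.Agent.Nodes Cfsg.Agent.Nodes.RGDChev Cfsg.Agent.KFacts.RgdChevCoord
open Cfsg.Agent.ChevalleyStructure.SL2Hom Cfsg.Agent.ChevalleyStructure.RootVec
open Cfsg.Agent.H92.ExcSL2 Cfsg.Agent.H818.StrP.UTab Cfsg.Agent.H818.StrP.UAct
open Cfsg.Agent.GpExc Cfsg.Agent.H788.NB Cfsg.Agent.H625.SylConst

universe u v

section Field

variable {D : ChevalleyDatum} (hH : HiList D) {l : ℕ} {M : CoxeterMatrix (Fin l)} (hp : IsType D l M)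
  {W : Type*} [Group W] (cs : CoxeterSystem M W) {F K : Type} [Field F] [Field K]

theorem emb_pt (ι : F →+* K) (g : SL2 F) :
    Field.emb hp.inList ι (pt hH g) = pt hH (Matrix.SpecialLinearGroup.map ι g) := by
  apply Subtype.ext
  rw [Field.coe_emb, coe_ph, coe_ph]
  have h1 : Subgroup.closure (Set.range (up (F := F)) ∪ Set.range (lo (F := F))) ≤
      MonoidHom.eqLocus ((Field.glMap D ι).comp (phi (SL2All.good_of_mem D hH.inList (top D) (top_lt hH)) F))
        ((phi (SL2All.good_of_mem D hH.inList (top D) (top_lt hH)) K).comp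
          (Matrix.SpecialLinearGroup.map ι)) := by
    rw [Subgroup.closure_le]
    rintro _ (⟨t, rfl⟩ | ⟨t, rfl⟩)
    · show Field.glMap D ι (phi (SL2All.good_of_mem D hH.inList (top D) (top_lt hH)) F (up t)) =
        phi (SL2All.good_of_mem D hH.inList (top D) (top_lt hH)) K (Matrix.SpecialLinearGroup.map ι (up t))
      rw [Rank.map_up, phi_up hH.inList (top_lt hH), phi_up hH.inList (top_lt hH), Field.glMap_xG]
    · show Field.glMap D ι (phi (SL2All.good_of_mem D hH.inList (top D) (top_lt hH)) F (lo t)) =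
        phi (SL2All.good_of_mem D hH.inList (top D) (top_lt hH)) K (Matrix.SpecialLinearGroup.map ι (lo t))
      rw [Rank.map_lo, phi_lo hH.inList (top_lt hH), phi_lo hH.inList (top_lt hH), Field.glMap_xG]
  exact h1 (mem_closure_SL2 g)

/-- **The centraliser of an element of odd prime order of the long root `SL₂(F)`**, `F` any finite field. -/
theorem field_cent [Finite W] [Finite F] {r : ℕ} [Fact r.Prime] [CharP F r] {q : ℕ} (hq : q.Prime) (hq2 : q ≠ 2)
    (hqF : (q : F) ≠ 0) {g : SL2 F} (hg : g ^ q = 1) (hg1 : g ≠ 1) {y : ↥(D.group F)}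
    (hy : y * pt hH g = pt hH g * y) :
    (∀ u ∈ RGD.Sup (XX D l F) (Om hp cs hH), y * u * y⁻¹ ∈ RGD.Sup (XX D l F) (Om hp cs hH)) ∧
    ∀ j, y ^ r ^ j = 1 → y ∈ RGD.Sup (XX D l F) (Om hp cs hH) := by
  obtain ⟨K, _, _, ι, ζ, hζ⟩ := exists_ext F hq hqF
  have : CharP K r := (RingHom.charP_iff ι ι.injective r).1 inferInstance
  have hinj := Rank.map_injective (F := F) (K := K) ι
  have hg'q : (Matrix.SpecialLinearGroup.map ι g) ^ q = 1 := by rw [← map_pow, hg, map_one]
  have hg'1 : Matrix.SpecialLinearGroup.map ι g ≠ 1 := fun h1 => hg1 (hinj (by rw [map_one]; exact h1))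
  have hGG : GG cs hp.isCartan (TT D F) (XX D l F) = ⊤ :=
    Cfsg.Agent.KFacts.RgdRigid.GG_eq_top (G1_eq_top (K := F) hp cs)
  have hX : ∀ a, IsRoot cs hp.isCartan a → a (nd hH hp) = 0 → (XX D l F a).map (Field.emb hp.inList ι) ≤
      RGD.Sup (XX D l K) (Om hp cs hH) := by
    intro a ha h0
    exact (Field.emb_X hp ι cs ha).trans (RGD.le_Sup (X := XX D l K) ⟨ha, h0⟩)
  constructor
  · exact norm_zero hH hp cs (rgd (K := F) hp cs r) hGG (Field.comp hp ι cs _) (Field.comp hp ι cs _) hX hq hq2 hζ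
      hg'q hg'1 (emb_pt hH hp ι g) hy
  · intro j hj
    exact zero_pow hH hp cs (rgd (K := F) hp cs r) hGG (Field.comp hp ι cs _) (Field.comp hp ι cs _) hq hq2 hζ
      hg'q hg'1 (emb_pt hH hp ι g) hy hj

end Field

namespace G2

theorem hH : HiList chevG2 := by simp

theorem hT : IsType chevG2 2 CoxeterMatrix.G₂ := by simp [IsType, typeList]

theorem zero_check : ∀ r < chevG2.nroots, rt chevG2 r (node chevG2) = 0 →
    r = chevG2.simple 0 ∨ r = chevG2.neg (chevG2.simple 0) := by decide +kernel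

theorem nodes : node chevG2 = 1 ∧ rt chevG2 (chevG2.simple 0) (node chevG2) = 0 := by decide +kernel

theorem sup_eq (F : Type) [Field F] :
    RGD.Sup (XX chevG2 2 F) (Om hT CoxeterMatrix.G₂.toCoxeterSystem hH) =
      XX chevG2 2 F (sr 0) ⊔ XX chevG2 2 F (-sr 0) := by
  set cs := CoxeterMatrix.G₂.toCoxeterSystem
  have h0 : vec chevG2 2 (chevG2.simple 0) = sr (0 : Fin 2) := vec_simple hT 0
  have hlt : chevG2.simple 0 < chevG2.nroots := by decide
  have h1 : vec chevG2 2 (chevG2.neg (chevG2.simple 0)) = -sr (0 : Fin 2) := by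
    rw [← h0]; exact vec_neg hT hlt
  apply le_antisymm
  · refine RGD.Sup_le ?_
    rintro a ⟨ha, ha0⟩
    obtain ⟨s, hs, rfl⟩ := (isRoot_iff hT cs a).1 ha
    rcases zero_check s hs ha0 with rfl | rfl
    · rw [h0]; exact le_sup_left
    · rw [h1]; exact le_sup_right
  · have hsr := isRoot_sr cs hT.isCartan (0 : Fin 2)
    have hz : (sr (0 : Fin 2) : Fin 2 → ℤ) (nd hH hT) = 0 := by
      rw [← h0]; exact nodes.2
    refine sup_le ?_ ?_
    · exact RGD.le_Sup (X := XX chevG2 2 F) (show sr 0 ∈ Om hT cs hH from ⟨hsr, hz⟩)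
    · exact RGD.le_Sup (X := XX chevG2 2 F) (show -sr 0 ∈ Om hT cs hH from ⟨hsr.neg, by
        rw [Pi.neg_apply, hz, _root_.neg_zero]⟩)

/-- **`p ∣ q² - 1` odd** -/
theorem imc_tor {F : Type} [Field F] [Fintype F] {p : ℕ} [hpf : Fact p.Prime] (hp2 : p ≠ 2) (hq : 4 ≤ Fintype.card F)
    (hd : p ∣ Fintype.card F ^ 2 - 1) : IMC p ↥(chevG2.group F) := by
  classical
  obtain ⟨r, hr, hcp⟩ : ∃ p : ℕ, p.Prime ∧ CharP F p := by
    obtain ⟨p, hcp⟩ := CharP.exists F
    exact ⟨p, CharP.char_is_prime F p, hcp⟩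
  have : Fact r.Prime := ⟨hr⟩
  set cs := CoxeterMatrix.G₂.toCoxeterSystem with hcs
  have : Finite CoxeterMatrix.G₂.Group := finite_W hT cs
  have hrK : r ∣ Fintype.card F := by
    obtain ⟨n, -, hn⟩ := FiniteField.card F r
    rw [hn]
    exact dvd_pow_self r n.ne_zero
  have hpF : (p : F) ≠ 0 := by
    intro h0
    have h1 : r ∣ p := (CharP.cast_eq_zero_iff F r p).1 h0
    have h2 : r = p := (Nat.prime_dvd_prime_iff_eq hr hpf.out).1 h1
    have h3 : p ∣ Fintype.card F ^ 2 := (h2 ▸ hrK).trans (dvd_pow_self _ two_ne_zero)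
    have h4 : p ∣ 1 := by
      have h5 := Nat.dvd_sub h3 hd
      have h6 : 0 < Fintype.card F ^ 2 := by positivity
      rwa [Nat.sub_sub_self h6] at h5
    exact hpf.out.one_lt.ne' (Nat.dvd_one.1 h4)
  obtain ⟨g, hgo⟩ := exists_order (F := F) hpf.out hd
  have hgp : g ^ p = 1 := by rw [← hgo]; exact pow_orderOf_eq_one g
  have hg1 : g ≠ 1 := fun h1 => by
    rw [h1, orderOf_one] at hgo
    exact hpf.out.one_lt.ne hgo
  have hxo : orderOf (pt hH g : ↥(chevG2.group F)) = p := by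
    rw [orderOf_ph (F := F) hH.inList (top_lt hH) g (by rw [hgo]; exact hpf.out.odd_of_ne_two hp2), hgo]
  set η : SL2 F →* ↥(chevG2.group F) := OddHalf.LongSL.Chev.phi hT F 0 with hη
  have hrange : η.range = RGD.Sup (XX chevG2 2 F) (Om hT cs hH) := by
    rw [sup_eq, hη]
    exact H428.NBL.range_phi hT F 0
  have hinj : Function.Injective η :=
    ph_injective (D := chevG2) (F := F) hT.inList (i := 0) (s := 6) (by decide) (by decide) (by decide) (by decide)
  have hmem : ∀ v, η v ∈ RGD.Sup (XX chevG2 2 F) (Om hT cs hH) := fun v => by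
    rw [← hrange]; exact ⟨v, rfl⟩
  refine imc_of_sl2 (r := r) hp2 hq hd η hinj hxo ?_ ?_ ?_
  · intro v
    exact pt_comm hH hT cs g _ (hmem v)
  · intro y hy v
    rw [hrange]
    exact (field_cent hH hT cs (r := r) hpf.out hp2 hpF hgp hg1 hy).1 _ (hmem v)
  · intro y hy hyr
    rw [hrange]
    exact (field_cent hH hT cs (r := r) hpf.out hp2 hpF hgp hg1 hy).2 1 (by rw [pow_one, ← hyr, pow_orderOf_eq_one])

end G2

end Cfsg.Agent.H287.SC
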