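import Cfsg.Agent.H287.SC.Star
import Cfsg.Agent.H287.SC.TorG2
import Cfsg.Agent.H287.SC.TorD4
import Cfsg.Agent.H661.SC.NonPrin

/-!
# `IMC p` for `G₂(q)` and `³D₄(q)`, `p` odd (helper287, for S4526)
-/

set_option autoImplicit false

namespace Cfsg.Agent.H287.SC

open Cfsg Cfsg.Lie Cfsg.Agent.H625.SylConst

/-- **`G₂(q)`, `p ≠ 2` not the characteristic** -/
theorem imc_g2_cross {F : Type} [Field F] [Fintype F] {p : ℕ} [hp : Fact p.Prime] (hp2 : p ≠ 2)
    (hq : 3 ≤ Fintype.card F) (hpF : ¬ p ∣ Fintype.card F) (hd : p ∣ Nat.card ↥(chevG2.group F)) :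
    IMC p ↥(chevG2.group F) := by
  by_cases h : p ∣ Fintype.card F ^ 2 - 1
  · refine G2.imc_tor hp2 ?_ h
    rcases Nat.lt_or_ge 3 (Fintype.card F) with h1 | h1
    · exact h1
    · have h2 : Fintype.card F = 3 := le_antisymm h1 hq
      rw [h2] at h
      exfalso
      have h3 : p ∣ 2 ^ 3 := by simpa using h
      exact hp2 ((Nat.prime_dvd_prime_iff_eq hp.out Nat.prime_two).1 (hp.out.dvd_of_dvd_pow h3))
  · exact G2.imc_big hpF h hd

/-- **`³D₄(q)`, `p ≠ 2` not the characteristic** -/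
theorem imc_d4_cross {K : Type} [Field K] [Fintype K] {q : ℕ} (hq : IsPrimePow q) (hK : Fintype.card K = q ^ 3)
    {p : ℕ} [hp : Fact p.Prime] (hp2 : p ≠ 2) (hpq : ¬ p ∣ q) (hd : p ∣ Nat.card ↥(twistedD4 K q)) :
    IMC p ↥(twistedD4 K q) := by
  by_cases h : p ∣ q ^ 2 - 1
  · exact TwD4.imc_tor hp2 hq hK h
  · exact TwD4.imc_big hq hK hpq h hd

end Cfsg.Agent.H287.SC
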