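import Cfsg.Agent.H287.SC.Four
import Cfsg.Agent.H287.SC.InvTor
import Cfsg.Agent.H287.SC.TorD4
import Cfsg.Agent.H249.PPTwD4
import Cfsg.Agent.H526.ObKnown

/-!
# `NoCent 2` for `G₂(q)` and `³D₄(q)`, `q` odd (helper287, for S4526)
-/

set_option autoImplicit false
set_option linter.unusedSectionVars false

namespace Cfsg.Agent.H287.SC

open CoxeterSystem Cfsg Cfsg.Lie Cfsg.Agent.ChevalleyStructure Cfsg.Agent.ChevalleyStructure.Elts
  Cfsg.Agent.ChevalleyStructure.TwistedU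
  Cfsg.Agent.ChevalleyStructure.CoxeterGeom Cfsg.Agent.Tits.Roots Cfsg.Agent.Tits.Core
  Cfsg.Agent.Tits.RootComb Cfsg.Agent.Nodes.Comb
open Cfsg.Agent.Nodes.Reps Cfsg.Agent.Nodes.BNOf
  Cfsg.Agent.Nodes Cfsg.Agent.Nodes.RGDChev Cfsg.Agent.KFacts.RgdChevCoord
  Cfsg.Agent.Nodes.RGDTwGen Cfsg.Agent.Nodes.RGDFold Cfsg.Agent.Nodes.RGDFoldSL Cfsg.Agent.Nodes.RGDTwCoord
open Cfsg.Agent.H661.SC Cfsg.Agent.ChevalleyStructure.CoxeterGeomTypes

/-- a reflection -/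
def rfA (A : Fin 2 → Fin 2 → ℤ) (i : Fin 2) (v : Fin 2 → ℤ) : Fin 2 → ℤ := v - pairing A i v • sr i

theorem rep_word {M : CoxeterMatrix (Fin 2)} {A : Fin 2 → Fin 2 → ℤ} {W : Type*} [Group W] (cs : CoxeterSystem M W)
    (h : IsCartan M A) (v : Fin 2 → ℤ) :
    rep cs h (cs.simple 0 * cs.simple 1 * cs.simple 0 * cs.simple 1 * cs.simple 0 * cs.simple 1) v =
      rfA A 0 (rfA A 1 (rfA A 0 (rfA A 1 (rfA A 0 (rfA A 1 v))))) := by
  have h1 : ∀ i v, rep cs h (cs.simple i) v = rfA A i v := fun i v => rep_simple_eq cs h i v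
  simp only [rep_mul_apply, h1]

theorem hS_neg_one {F : Type*} [Field F] : (hS (-1 : F)) * hS (-1 : F) = 1 := by
  have h1 : (hS (-1 : F)) = -1 := by
    apply Subtype.ext
    rw [coe_hS (neg_ne_zero.2 one_ne_zero)]
    ext i j
    fin_cases i <;> fin_cases j <;> simp
  rw [h1, neg_mul_neg, one_mul]

namespace G2

set_option synthInstance.maxSize 4000 in
set_option synthInstance.maxHeartbeats 400000 in
theorem comb_tab : ∀ r < 12, ∀ s < 12, (∀ i, Even (vec chevG2 2 r i - (sr 0 : Fin 2 → ℤ) i)) →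
    (∀ i, Even (vec chevG2 2 s i - (sr 1 : Fin 2 → ℤ) i)) →
    (∀ t < 12, vec chevG2 2 t 0 • vec chevG2 2 r + vec chevG2 2 t 1 • vec chevG2 2 s ∈
      (List.range 12).map (vec chevG2 2)) →
    (vec chevG2 2 r = sr 0 ∧ vec chevG2 2 s = sr 1) ∨ (vec chevG2 2 r = -sr 0 ∧ vec chevG2 2 s = -sr 1) := by
  decide +kernel

theorem odd_tab : ∀ r < 12, ¬ Even (vec chevG2 2 r 0) ∨ ¬ Even (vec chevG2 2 r 1) := by decide +kernel

theorem neg_tab : ∀ i : Fin 2, rfA (cartanOf chevG2 2) 0 (rfA (cartanOf chevG2 2) 1 (rfA (cartanOf chevG2 2) 0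
    (rfA (cartanOf chevG2 2) 1 (rfA (cartanOf chevG2 2) 0 (rfA (cartanOf chevG2 2) 1 (sr i)))))) = -sr i := by
  decide +kernel

theorem cartan_tab : ∀ r < 12, ∀ i : Fin 2, Even (chevG2.cartan ((1 - i : Fin 2) : ℕ) r - vec chevG2 2 r i) := by
  decide +kernel

theorem wp_tab : ∀ s < 12, wp chevG2 ([0, 1, 0, 1, 0, 1] : List (Fin 2)) s = chevG2.neg s := by decide +kernel

theorem nroots : chevG2.nroots = 12 := by decide +kernel

/-- the element representing `-1` -/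
theorem noCent {F : Type} [Field F] [Fintype F] (ho : (2 : F) ≠ 0) : NoCent 2 ↥(chevG2.group F) := by
  classical
  obtain ⟨r, hr, hcp⟩ : ∃ p : ℕ, p.Prime ∧ CharP F p := by
    obtain ⟨p, hcp⟩ := CharP.exists F
    exact ⟨p, CharP.char_is_prime F p, hcp⟩
  have : Fact r.Prime := ⟨hr⟩
  have hr2 : r ≠ 2 := by
    rintro rfl
    exact ho (by exact_mod_cast CharP.cast_eq_zero F 2)
  let cs := CoxeterMatrix.G₂.toCoxeterSystem
  have hp : IsType chevG2 2 CoxeterMatrix.G₂ := by simp [IsType, typeList]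
  have hW : Finite CoxeterMatrix.G₂.Group := finite_W hp cs
  have R := rgd (K := F) hp cs r
  have hGG := Cfsg.Agent.KFacts.RgdRigid.GG_eq_top (G1_eq_top (K := F) hp cs)
    (T := (chevG2.diagonalSubgroup F).subgroupOf (chevG2.group F))
  have hroot : ∀ a, IsRoot cs hp.isCartan a → a ∈ (List.range 12).map (vec chevG2 2) := by
    intro a ha
    obtain ⟨s, hs, rfl⟩ := (isRoot_iff hp cs a).1 ha
    rw [nroots] at hs
    exact List.mem_map.2 ⟨s, List.mem_range.2 hs, rfl⟩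
  have hmemL : ∀ a ∈ (List.range 12).map (vec chevG2 2), ∃ s < 12, vec chevG2 2 s = a := by
    intro a ha
    obtain ⟨s, hs, e⟩ := List.mem_map.1 ha
    exact ⟨s, List.mem_range.1 hs, e⟩
  let z : Fin 2 → ↥(chevG2.group F) := fun i => hc hp (1 - i) (-1)
  refine noCent_two (R := rgd (K := F) hp cs r) (L := (List.range 12).map (vec chevG2 2)) (z := z)
    (w₀ := cs.simple 0 * cs.simple 1 * cs.simple 0 * cs.simple 1 * cs.simple 0 * cs.simple 1)
    (m := ⟨nn hp F 0, nn_mem_group hp 0⟩ * ⟨nn hp F 1, nn_mem_group hp 1⟩ * ⟨nn hp F 0, nn_mem_group hp 0⟩ *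
      ⟨nn hp F 1, nn_mem_group hp 1⟩ * ⟨nn hp F 0, nn_mem_group hp 0⟩ * ⟨nn hp F 1, nn_mem_group hp 1⟩)
    ?_ hr2 hGG
  refine ⟨hroot, ?_, ?_, ?_, ?_, ?_, ?_, ?_, ?_, ?_, ?_⟩
  · intro a ha
    obtain ⟨s, hs, rfl⟩ := hmemL a ha
    exact isRoot_vec hp cs (by rw [nroots]; exact hs)
  · intro a ha
    obtain ⟨s, hs, rfl⟩ := hmemL a ha
    exact odd_tab s hs
  · intro x hx y hy h1 h2 h3
    obtain ⟨s, hs, rfl⟩ := hmemL x hx
    obtain ⟨t, ht, rfl⟩ := hmemL y hy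
    exact comb_tab s hs t ht h1 h2 fun k hk => h3 _ (List.mem_map.2 ⟨k, List.mem_range.2 hk, rfl⟩)
  · intro i
    rw [rep_word]
    exact neg_tab i
  · intro i
    exact hc_mem hp (1 - i) (neg_ne_zero.2 one_ne_zero)
  · intro i
    apply Subtype.ext
    show hG hp.inList (chevG2.simple ((1 - i : Fin 2) : ℕ)) (-1 : F) * hG hp.inList (chevG2.simple ((1 - i : Fin 2) : ℕ)) (-1 : F) = 1
    rw [← psi_hS hp.inList (NPerm.simple_lt hp.inList (lt_rank hp (1 - i))), ← map_mul, hS_neg_one, map_one]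
  · intro i a ha he x hx
    have I := Nodes.ChevCls.exists_inv (K := F) hp cs (1 - i)
    refine I.even a ha ?_ x hx
    obtain ⟨s, hs, rfl⟩ := (isRoot_iff hp cs a).1 ha
    rw [Nodes.ChevCls.cpr_vec hp cs (1 - i) hs]
    have h1 := cartan_tab s (by rw [← nroots]; exact hs) i
    have h2 := h1.add he
    rwa [sub_add_cancel] at h2
  · intro i a ha he x hx
    have I := Nodes.ChevCls.exists_inv (K := F) hp cs (1 - i)
    refine I.odd a ha ?_ x hx
    obtain ⟨s, hs, rfl⟩ := (isRoot_iff hp cs a).1 ha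
    rw [Nodes.ChevCls.cpr_vec hp cs (1 - i) hs]
    have h1 := cartan_tab s (by rw [← nroots]; exact hs) i
    rw [Int.not_even_iff_odd] at he
    have h2 := h1.add_odd he
    rwa [sub_add_cancel] at h2
  · have h0 := rp_simple cs (rgd (K := F) hp cs r).nsys 0
    have h1 := rp_simple cs (rgd (K := F) hp cs r).nsys 1
    exact ((((h0.mul h1).mul h0).mul h1).mul h0).mul h1
  · intro t ht
    have h1 := inv_tor hp (K := F) (o := [0, 1, 0, 1, 0, 1]) (fun s hs => wp_tab s (by rw [← nroots]; exact hs)) ht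
    apply Subtype.ext
    have h2 : nI hp F [0, 1, 0, 1, 0, 1] = nn hp F 0 * nn hp F 1 * nn hp F 0 * nn hp F 1 * nn hp F 0 * nn hp F 1 := by
      simp [nI, mul_assoc]
    rw [h2] at h1
    exact h1

end G2

namespace TwD4

open Cfsg.Agent.Nodes.RGDTwD4 (J)

set_option synthInstance.maxSize 4000 in
set_option synthInstance.maxHeartbeats 400000 in
theorem comb_tab : ∀ r < 24, ∀ s < 24, (∀ i, Even (V chevD4 J r i - (sr 0 : Fin 2 → ℤ) i)) →
    (∀ i, Even (V chevD4 J s i - (sr 1 : Fin 2 → ℤ) i)) →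
    (∀ t < 24, V chevD4 J t 0 • V chevD4 J r + V chevD4 J t 1 • V chevD4 J s ∈
      (List.range 24).map (V chevD4 J)) →
    (V chevD4 J r = sr 0 ∧ V chevD4 J s = sr 1) ∨ (V chevD4 J r = -sr 0 ∧ V chevD4 J s = -sr 1) := by
  decide +kernel

theorem odd_tab : ∀ r < 24, ¬ Even (V chevD4 J r 0) ∨ ¬ Even (V chevD4 J r 1) := by decide +kernel

theorem neg_tab : ∀ i : Fin 2, rfA RGDTwD4.A 0 (rfA RGDTwD4.A 1 (rfA RGDTwD4.A 0
    (rfA RGDTwD4.A 1 (rfA RGDTwD4.A 0 (rfA RGDTwD4.A 1 (sr i)))))) = -sr i := by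
  decide +kernel

theorem cartan_tab : ∀ r < 24, ∀ i : Fin 2,
    Even (((J (1 - i)).map fun j : Fin 4 => chevD4.cartan (j : ℕ) r).sum - V chevD4 J r i) := by
  decide +kernel

theorem wp_tab : ∀ s < 24, wp chevD4 (J 0 ++ (J 1 ++ (J 0 ++ (J 1 ++ (J 0 ++ J 1))))) s = chevD4.neg s := by
  decide +kernel

theorem nroots : chevD4.nroots = 24 := by decide +kernel

theorem wt_sum {K : Type} [Field K] (φ : K →+* K) (o : List (Fin 4)) (s : ℕ) :
    wt chevD4 φ o s (-1 : K) = (-1) ^ (o.map fun j : Fin 4 => chevD4.cartan (j : ℕ) s).sum := by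
  induction o with
  | nil => show (1 : K) = _; rw [List.map_nil, List.sum_nil, zpow_zero]
  | cons j o ih =>
    show (-1 : K) ^ chevD4.cartan j s * wt chevD4 φ o s (φ (-1)) = _
    rw [map_neg, map_one, ih, List.map_cons, List.sum_cons, zpow_add₀ (neg_ne_zero.2 one_ne_zero)]

theorem noCent {K : Type} [Field K] [Fintype K] {q : ℕ} (hq : IsPrimePow q) (hK : Fintype.card K = q ^ 3)
    (ho : (2 : K) ≠ 0) : NoCent 2 ↥(twistedD4 K q) := by
  classical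
  obtain ⟨φ, hφ⟩ := D4Fixed.exists_frob hq hK
  have hf : ∀ i, ∀ s ∈ Cfsg.Agent.Nodes.RGDTwNode.D4.rep i :: Cfsg.Agent.Nodes.RGDTwNode.D4.rest i, ∀ t : K,
      ((Cfsg.Agent.Nodes.RGDTwD4.eps s : ℤ) : K) * φ t = φ t := fun i s hs t => by
    rw [Cfsg.Agent.Nodes.RGDTwNode.D4.eps_one i s hs, Int.cast_one, one_mul]
  obtain ⟨r, hr, hcp⟩ : ∃ p : ℕ, p.Prime ∧ CharP K p := by
    obtain ⟨p, hcp⟩ := CharP.exists K
    exact ⟨p, CharP.char_is_prime K p, hcp⟩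
  have : Fact r.Prime := ⟨hr⟩
  have hr2 : r ≠ 2 := by
    rintro rfl
    exact ho (by exact_mod_cast CharP.cast_eq_zero K 2)
  let cs : CoxeterSystem CoxeterMatrix.G₂ CoxeterMatrix.G₂.Group := CoxeterMatrix.G₂.toCoxeterSystem
  have hle := D4Fixed.twisted_le_fix (K := K) hK hφ
  have FG := Cfsg.Agent.Nodes.RGDTwD4.foldGrp (K := K) hφ hle
  have FD := Cfsg.Agent.Nodes.RGDTwD4.foldData
  have N := Cfsg.Agent.Nodes.RGDTwNode.D4.nodeOK
  have h := Cfsg.Agent.Nodes.RGDTwD4.isCartan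
  have hp := Cfsg.Agent.Nodes.RGDTwD4.hp
  have TC := H249.PPTwD4.twC (K := K) hK hφ
  have : Finite CoxeterMatrix.G₂.Group := H249.PPTwD4.finiteW cs
  have R := Cfsg.Agent.Nodes.RGDTwD4.rgd cs hK hφ r
  have hGG := Cfsg.Agent.KFacts.RgdRigid.GG_eq_top (cs := cs) (h := h)
    (T := (chevD4.diagonalSubgroup K ⊓ twistedD4 K q).subgroupOf (twistedD4 K q))
    (X := fun z => (Cfsg.Agent.Nodes.RGDFold.R chevD4 Cfsg.Agent.Nodes.RGDTwD4.hp K RGDTwD4.J
      (D4Fixed.sig φ) z).subgroupOf (twistedD4 K q))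
    (Cfsg.Agent.Nodes.RGDFold.G1_eq_top cs h FD FG r)
  have hroot : ∀ a, IsRoot cs h a → ∃ s < 24, V chevD4 J s = a := by
    intro a ha
    obtain ⟨s, hs, rfl⟩ := (FD.isRoot_iff hp.checked (fun i r hr => wp_lt hp (RGDTwD4.J i) hr) a).1 ha
    exact ⟨s, hs, rfl⟩
  have hmemL : ∀ a ∈ (List.range 24).map (V chevD4 J), ∃ s < 24, V chevD4 J s = a := by
    intro a ha
    obtain ⟨s, hs, e⟩ := List.mem_map.1 ha
    exact ⟨s, List.mem_range.1 hs, e⟩
  have hm1 : (-1 : K) ≠ 0 := neg_ne_zero.2 one_ne_zero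
  have hd : ∀ i, φ^[(Cfsg.Agent.Nodes.RGDTwNode.D4.rest i).length + 1] (-1 : K) = -1 := fun i =>
    Function.iterate_fixed (by rw [map_neg, map_one]) _
  let z : Fin 2 → ↥(twistedD4 K q) := fun i => ⟨hI hp φ (J (1 - i)) (-1), (TC.hI_mem (N (1 - i)) (hf (1 - i)) hm1 (hd (1 - i))).2⟩
  -- the action
  have hact : ∀ i a, IsRoot cs h a → ∀ x ∈ RGDTwD4.X φ q a, ∃ b : K, ∀ c : K, c = (if Even (a i) then b else -b) →
      Y hp J φ H249.PPTwD4.dl H249.PPTwD4.O a b = (x : GL chevD4.Idx K) ∧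
      ((z i * x * (z i)⁻¹ : ↥(twistedD4 K q)) : GL chevD4.Idx K) =
        Y hp J φ H249.PPTwD4.dl H249.PPTwD4.O a c := by
    intro i a ha x hx
    obtain ⟨b, hb, rfl⟩ := (TC.mem_X cs h r ha x).1 hx
    refine ⟨b, fun c hc => ⟨(TC.coe_x cs h r ha hb).symm, ?_⟩⟩
    have h1 := (TC.hI_Y (N (1 - i)) (hf (1 - i)) hm1 (hd (1 - i)) ha hb).2
    obtain ⟨ho, hV, -⟩ := TC.root ha
    obtain ⟨o', ho'⟩ := TC.head ha
    set s := (cl chevD4 J H249.PPTwD4.O a).headD 0 with hs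
    have hlt : s < 24 := by
      have h2 : s ∈ cl chevD4 J H249.PPTwD4.O a := by rw [ho']; exact List.mem_cons_self
      exact TC.CD.lt _ ho _ h2
    rw [Subgroup.coe_mul, Subgroup.coe_mul, Subgroup.coe_inv, TC.coe_x cs h r ha hb]
    refine h1.trans ?_
    congr 1
    rw [wt_sum]
    have h2 := cartan_tab s hlt i
    rw [hV] at h2
    by_cases he : Even (a i)
    · rw [if_pos he] at hc
      have h3 := h2.add he
      rw [sub_add_cancel] at h3
      rw [h3.neg_one_zpow, one_mul, hc]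
    · rw [if_neg he] at hc
      rw [Int.not_even_iff_odd] at he
      have h3 := h2.add_odd he
      rw [sub_add_cancel] at h3
      rw [h3.neg_one_zpow, neg_one_mul, hc]
  refine noCent_two (R := RGDTwD4.rgd cs hK hφ r) (L := (List.range 24).map (V chevD4 J)) (z := z)
    (w₀ := cs.simple 0 * cs.simple 1 * cs.simple 0 * cs.simple 1 * cs.simple 0 * cs.simple 1)
    (m := RGDTwD4.n hφ 0 * RGDTwD4.n hφ 1 * RGDTwD4.n hφ 0 * RGDTwD4.n hφ 1 * RGDTwD4.n hφ 0 * RGDTwD4.n hφ 1)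
    ?_ hr2 hGG
  refine ⟨?_, ?_, ?_, ?_, ?_, ?_, ?_, ?_, ?_, ?_, ?_⟩
  · intro a ha
    obtain ⟨s, hs, rfl⟩ := hroot a ha
    exact List.mem_map.2 ⟨s, List.mem_range.2 hs, rfl⟩
  · intro a ha
    obtain ⟨s, hs, rfl⟩ := hmemL a ha
    exact (FD.isRoot_iff hp.checked (fun i r hr => wp_lt hp (RGDTwD4.J i) hr) _).2 ⟨s, hs, rfl⟩
  · intro a ha
    obtain ⟨s, hs, rfl⟩ := hmemL a ha
    exact odd_tab s hs
  · intro x hx y hy h1 h2 h3
    obtain ⟨s, hs, rfl⟩ := hmemL x hx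
    obtain ⟨t, ht, rfl⟩ := hmemL y hy
    exact comb_tab s hs t ht h1 h2 fun k hk => h3 _ (List.mem_map.2 ⟨k, List.mem_range.2 hk, rfl⟩)
  · intro i
    rw [rep_word]
    exact neg_tab i
  · intro i
    obtain ⟨h1, h2⟩ := TC.hI_mem (N (1 - i)) (hf (1 - i)) hm1 (hd (1 - i))
    exact Subgroup.mem_subgroupOf.2 ⟨h1, h2⟩
  · intro i
    have h2 : ((Phi FG (N (1 - i)) (hf (1 - i)) (hS (⟨-1, mem_Fx.2 (hd (1 - i))⟩ :
        Fx φ ((Cfsg.Agent.Nodes.RGDTwNode.D4.rest (1 - i)).length + 1))) : ↥(twistedD4 K q)) : GL chevD4.Idx K) =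
        hI hp φ (J (1 - i)) (-1) := by
      show RGDFoldSL.Ph hp K (N (1 - i)) φ (Matrix.SpecialLinearGroup.map _ (hS _)) = _
      rw [map_hS]
      exact hv_eq_hI (N (1 - i)).Jn (N (1 - i)).lt _
    have h3 : z i = Phi FG (N (1 - i)) (hf (1 - i)) (hS (⟨-1, mem_Fx.2 (hd (1 - i))⟩ :
        Fx φ ((Cfsg.Agent.Nodes.RGDTwNode.D4.rest (1 - i)).length + 1))) := Subtype.ext h2.symm
    have h4 : (⟨-1, mem_Fx.2 (hd (1 - i))⟩ :
        Fx φ ((Cfsg.Agent.Nodes.RGDTwNode.D4.rest (1 - i)).length + 1)) = -1 := Subtype.ext rfl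
    rw [h3, ← map_mul, h4, hS_neg_one, map_one]
  · intro i a ha he x hx
    obtain ⟨b, hb⟩ := hact i a ha x hx
    obtain ⟨h1, h2⟩ := hb b (by rw [if_pos he])
    exact Subtype.ext (h2.trans h1)
  · intro i a ha he x hx
    obtain ⟨b, hb⟩ := hact i a ha x hx
    obtain ⟨h1, h2⟩ := hb (-b) (by rw [if_neg he])
    apply Subtype.ext
    rw [h2, Subgroup.coe_inv, ← h1]
    apply eq_inv_of_mul_eq_one_left
    rw [← TC.Y_add ha, neg_add_cancel]
    have h3 := TC.Y_add ha (0 : K) 0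
    rw [add_zero] at h3
    exact (mul_eq_left.1 h3.symm)
  · have h0 := rp_simple cs (RGDTwD4.rgd cs hK hφ r).nsys 0
    have h1 := rp_simple cs (RGDTwD4.rgd cs hK hφ r).nsys 1
    exact ((((h0.mul h1).mul h0).mul h1).mul h0).mul h1
  · intro t ht
    have ht' : (t : GL chevD4.Idx K) ∈ chevD4.diagonalSubgroup K := (Subgroup.mem_subgroupOf.1 ht).1
    have h1 := inv_tor hp (K := K) (o := J 0 ++ (J 1 ++ (J 0 ++ (J 1 ++ (J 0 ++ J 1))))) (fun s hs => wp_tab s hs) ht'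
    apply Subtype.ext
    simp only [nI_append] at h1
    show nI hp K (J 0) * nI hp K (J 1) * nI hp K (J 0) * nI hp K (J 1) * nI hp K (J 0) * nI hp K (J 1) *
      (t : GL chevD4.Idx K) * (nI hp K (J 0) * nI hp K (J 1) * nI hp K (J 0) * nI hp K (J 1) * nI hp K (J 0) *
        nI hp K (J 1))⁻¹ = (t : GL chevD4.Idx K)⁻¹
    rw [← h1]
    simp only [mul_assoc]

end TwD4

end Cfsg.Agent.H287.SC
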