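import Cfsg.Agent.S2299
import Cfsg.Agent.S2300
import Cfsg.Agent.S2301
import Cfsg.Agent.S2302

/-!
# Characters of `SL₂(q)` of degree `q ± 1` and the elements of order `r ∣ q` (helper287, for S4526)

* `exists_char` : `p` an odd prime divisor of `q² - 1`, `q ≥ 4` : an irreducible character `φ` with `φ(v) = ± 1` for the
  elements `v` of order `r = char F`, `φ(1) d' = q² - 1`, `p ∤ d'`;
* `two_mul_card` : a nonempty union of classes of elements of order `r` has `(q² - 1) k / 2` elements, `k = 1, 2`.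
-/

set_option autoImplicit false

open Cfsg
open scoped ComplexConjugate

namespace Cfsg.Agent.H287.SC.SLU

open Matrix Cfsg.Agent.Characters.Core Cfsg.Agent.H670.RankOne Cfsg.Agent.H670.SL2

variable {F : Type*} [Field F] [Fintype F]

local notation "SL" => SpecialLinearGroup (Fin 2) F

omit [Fintype F] in
theorem upp_eq (s : F) : Cfsg.Agent.H984.SLTwo.upp 1 s = x s := by
  apply Subtype.ext
  rw [coe_x]
  show !![((1 : Fˣ) : F), s; 0, (((1 : Fˣ)⁻¹ : Fˣ) : F)] = _
  rw [inv_one, Units.val_one]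

/-- the values on the elements of order `r` -/
theorem vals (χ : IrrCharacter SL) (h : ∀ c : F, c ≠ 0 → (data F).n χ c = 1) {s : F} (hs : s ≠ 0) :
    (χ : SL → ℂ) (x s) = (χ : SL → ℂ) 1 - Fintype.card F := by
  classical
  have e : ∀ c : F, ((data F).n χ c : ℂ) = 1 + ((data F).n χ 0 - 1) * (if c = 0 then 1 else 0) := by
    intro c
    by_cases hc : c = 0
    · rw [hc, if_pos rfl]; ring
    · rw [if_neg hc, h c hc, Nat.cast_one]; ring
  have h1 : (χ : SL → ℂ) (x s) = (data F).n χ 0 - 1 := by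
    rw [← data_X, (data F).apply_X (χ : SL → ℂ) s]
    have h2 : ∀ c : F, (data F).cf (χ : SL → ℂ) c * psi F (s * c) =
        psi F (c * s) + (((data F).n χ 0 : ℂ) - 1) * (if c = 0 then 1 else 0) := by
      intro c
      rw [(data F).cf_eq_n, e c]
      by_cases hc : c = 0
      · rw [hc, if_pos rfl, mul_zero, zero_mul, AddChar.map_zero_eq_one]; ring
      · rw [if_neg hc, mul_comm c s]; ring
    rw [Finset.sum_congr rfl fun c _ => h2 c, Finset.sum_add_distrib, sum_psi, if_neg hs, ← Finset.mul_sum,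
      Finset.sum_ite_eq' Finset.univ (0 : F), if_pos (Finset.mem_univ _), zero_add, mul_one]
  have h3 : (χ : SL → ℂ) 1 = Fintype.card F + ((data F).n χ 0 - 1) := by
    rw [(data F).degree_eq χ]
    push_cast
    rw [Finset.sum_congr rfl fun c _ => e c, Finset.sum_add_distrib, ← Finset.mul_sum,
      Finset.sum_ite_eq' Finset.univ (0 : F), if_pos (Finset.mem_univ _), Finset.sum_const, Finset.card_univ,
      nsmul_eq_mul]
    ring
  rw [h1, h3]
  ring

/-- the type of the characters of degree `q ± 1` -/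
theorem n_eq_one (hq : 4 ≤ Fintype.card F) (χ : IrrCharacter SL)
    (h : (χ : SL → ℂ) 1 = (Fintype.card F : ℂ) + 1 ∨ (χ : SL → ℂ) 1 = (Fintype.card F : ℂ) - 1) :
    ∀ c : F, c ≠ 0 → (data F).n χ c = 1 := by
  classical
  have h' : (χ : SL → ℂ) 1 = ((Fintype.card F + 1 : ℕ) : ℂ) ∨ (χ : SL → ℂ) 1 = ((Fintype.card F - 1 : ℕ) : ℂ) := by
    rcases h with h | h
    · left; rw [h]; push_cast; rfl
    · right; rw [h, Nat.cast_sub (by omega), Nat.cast_one]
  by_cases h2 : ringChar F = 2
  · have : CharP F 2 := by rw [← h2]; exact ringChar.charP F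
    have ha := Cfsg.Agent.S2300.a_surj (F := F)
    have ht := (data F).types_surj hasAnti ha χ
    have hd := (data F).degree_eq χ
    rw [(data F).sum_n_eq ha] at hd
    intro c hc
    rw [(data F).n_eq_n_one ha χ hc]
    simp only [Finset.mem_insert, Finset.mem_singleton, Prod.mk.injEq] at ht
    rcases ht with ⟨a1, a2⟩ | ⟨a1, a2⟩ | ⟨a1, a2⟩ | ⟨a1, a2⟩
    · exact a2
    · exfalso
      rw [a1, a2] at hd
      rcases h' with h' | h'
      · rw [h'] at hd
        have : Fintype.card F + 1 = 1 + (Fintype.card F - 1) * 0 := by exact_mod_cast hd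
        omega
      · rw [h'] at hd
        have : Fintype.card F - 1 = 1 + (Fintype.card F - 1) * 0 := by exact_mod_cast hd
        omega
    · exact a2
    · exact a2
  · have hodd : Fintype.card F % 2 = 1 := FiniteField.odd_card_of_char_ne_two h2
    obtain ⟨nu, hnu⟩ := exists_not_square (F := F) (Nat.odd_iff.2 hodd)
    obtain ⟨k, hk⟩ : ∃ k, Fintype.card F = 2 * k + 1 := ⟨Fintype.card F / 2, by omega⟩
    have ht := ty_mem hnu χ
    have hd := degree_eq_ty hnu χ hk
    have key : (data F).n χ 1 = 1 ∧ (data F).n χ nu = 1 := by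
      have hty : ty nu χ = ((data F).n χ 0, (data F).n χ 1, (data F).n χ nu) := rfl
      rw [hty] at ht hd
      simp only [tys, Finset.mem_insert, Finset.mem_singleton, Prod.mk.injEq] at ht
      rw [hk] at h'
      simp only at hd
      rcases ht with ⟨a1, a2, a3⟩ | ⟨a1, a2, a3⟩ | ⟨a1, a2, a3⟩ | ⟨a1, a2, a3⟩ | ⟨a1, a2, a3⟩ | ⟨a1, a2, a3⟩ |
        ⟨a1, a2, a3⟩ | ⟨a1, a2, a3⟩ <;> first | exact ⟨a2, a3⟩ | skip
      all_goals
        exfalso
        rw [a1, a2, a3] at hd
        rcases h' with h' | h'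
        · rw [h'] at hd
          have hd' := Nat.cast_injective (R := ℂ) hd
          omega
        · rw [h'] at hd
          have hd' := Nat.cast_injective (R := ℂ) hd
          omega
    intro c hc
    by_cases hsq : IsSquare c
    · rw [n_square χ hc hsq]; exact key.1
    · rw [n_not_square χ hsq hnu]; exact key.2

/-- existence of characters of degree `q ± 1` -/
theorem exists_deg (hq : 4 ≤ Fintype.card F) :
    (∃ χ : IrrCharacter SL, (χ : SL → ℂ) 1 = (Fintype.card F : ℂ) + 1) ∧
    ∃ χ : IrrCharacter SL, (χ : SL → ℂ) 1 = (Fintype.card F : ℂ) - 1 := by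
  classical
  have hne : ∀ {P : IrrCharacter SL → Prop}, Nat.card {χ : IrrCharacter SL // P χ} ≠ 0 → ∃ χ, P χ := by
    intro P h
    rw [Nat.card_ne_zero] at h
    obtain ⟨⟨χ, hχ⟩⟩ := h.1
    exact ⟨χ, hχ⟩
  by_cases h2 : ringChar F = 2
  · have : CharP F 2 := by rw [← h2]; exact ringChar.charP F
    obtain ⟨-, -, h3, h4⟩ := (Cfsg.Agent.S2300.result (F := F)).2 hq
    exact ⟨hne (by rw [h3]; omega), hne (by rw [h4]; omega)⟩
  · have hodd : Fintype.card F % 2 = 1 := FiniteField.odd_card_of_char_ne_two h2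
    obtain ⟨-, -, h3, h4, -⟩ := (Cfsg.Agent.S2299.result (F := F) (Nat.odd_iff.2 hodd)).2 (by omega)
    exact ⟨hne (by rw [h3]; omega), hne (by rw [h4]; omega)⟩

/-- **The characters of degree `q ± 1` divisible by the full `p`-part.** -/
theorem exists_char (hq : 4 ≤ Fintype.card F) {r : ℕ} [Fact r.Prime] [CharP F r] {p : ℕ} (hp : p.Prime) (hp2 : p ≠ 2)
    (hd : p ∣ Fintype.card F ^ 2 - 1) :
    ∃ (φ : IrrCharacter SL) (d d' : ℕ) (e : ℂ), (e = 1 ∨ e = -1) ∧ (φ : SL → ℂ) 1 = d ∧
      d * d' = Fintype.card F ^ 2 - 1 ∧ ¬ p ∣ d' ∧ ∀ v : SL, orderOf v = r → (φ : SL → ℂ) v = e := by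
  classical
  have hval : ∀ (χ : IrrCharacter SL) (e : ℂ), (χ : SL → ℂ) 1 = (Fintype.card F : ℂ) + e → (e = 1 ∨ e = -1) →
      ∀ v : SL, orderOf v = r → (χ : SL → ℂ) v = e := by
    intro χ e he he' v hv
    obtain ⟨g1, g2⟩ := Cfsg.Agent.H984.SLTwo.of_orderOf r hv
    obtain ⟨b, hb, hc⟩ := Cfsg.Agent.H984.SLTwo.exists_conj_upp g1 g2
    obtain ⟨y, hy⟩ := isConj_iff.1 hc
    have h1 : (χ : SL → ℂ) v = (χ : SL → ℂ) (x b) := by
      rw [← upp_eq, ← hy]
      exact (isIrr_isClassFunction χ.2 _ _).symm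
    rw [h1, vals χ (n_eq_one hq χ ?_) hb, he]
    · ring
    · rw [he]
      rcases he' with rfl | rfl
      · left; rfl
      · right; ring
  have h1 : Fintype.card F ^ 2 - 1 = (Fintype.card F - 1) * (Fintype.card F + 1) := by
    obtain ⟨m, hm⟩ : ∃ m, Fintype.card F = m + 1 := ⟨Fintype.card F - 1, by omega⟩
    rw [hm]
    simp only [Nat.add_sub_cancel]
    have : (m + 1) ^ 2 = m * (m + 1 + 1) + 1 := by ring
    omega
  have hp3 : 3 ≤ p := by
    have := hp.two_le
    omega
  obtain ⟨⟨χ, hχ⟩, χ', hχ'⟩ := exists_deg (F := F) hq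
  rw [h1, hp.dvd_mul] at hd
  rcases hd with hd | hd
  · refine ⟨χ', Fintype.card F - 1, Fintype.card F + 1, -1, Or.inr rfl, ?_, h1.symm, ?_, hval χ' (-1) ?_ (Or.inr rfl)⟩
    · rw [hχ', Nat.cast_sub (by omega), Nat.cast_one]
    · intro h
      have h3 := Nat.dvd_sub h hd
      have h4 : Fintype.card F + 1 - (Fintype.card F - 1) = 2 := by omega
      rw [h4] at h3
      have := Nat.le_of_dvd (by norm_num) h3
      omega
    · rw [hχ']; ring
  · refine ⟨χ, Fintype.card F + 1, Fintype.card F - 1, 1, Or.inl rfl, ?_, ?_, ?_, hval χ 1 hχ (Or.inl rfl)⟩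
    · rw [hχ]; push_cast; rfl
    · rw [h1, mul_comm]
    · intro h
      have h3 := Nat.dvd_sub hd h
      have h4 : Fintype.card F + 1 - (Fintype.card F - 1) = 2 := by omega
      rw [h4] at h3
      have := Nat.le_of_dvd (by norm_num) h3
      omega

/-- **Unions of classes of elements of order `r`.** -/
theorem two_mul_card {r : ℕ} [Fact r.Prime] [CharP F r] {S : Set SL} (h1 : ∀ v ∈ S, orderOf v = r)
    (h2 : ∀ v ∈ S, ∀ g : SL, g * v * g⁻¹ ∈ S) (h3 : S.Nonempty) :
    ∃ k : ℕ, (k = 1 ∨ k = 2) ∧ 2 * Nat.card S = (Fintype.card F ^ 2 - 1) * k := by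
  classical
  have : Fintype SL := Fintype.ofFinite _
  obtain ⟨v, hv⟩ := h3
  have hcl : ∀ v ∈ S, (ConjClasses.mk v).carrier ⊆ S := by
    intro v hv u hu
    rw [ConjClasses.mem_carrier_iff_mk_eq, ConjClasses.mk_eq_mk_iff_isConj] at hu
    obtain ⟨g, hg⟩ := isConj_iff.1 hu.symm
    rw [← hg]
    exact h2 v hv g
  by_cases hr : r = 2
  · subst hr
    refine ⟨2, Or.inr rfl, ?_⟩
    have h4 : S = (ConjClasses.mk v).carrier := by
      apply Set.Subset.antisymm _ (hcl v hv)
      intro u hu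
      rw [ConjClasses.mem_carrier_iff_mk_eq, ConjClasses.mk_eq_mk_iff_isConj]
      exact (Cfsg.Agent.S2302.result u v (h1 u hu) (h1 v hv)).1
    rw [h4, (Cfsg.Agent.S2302.result v v (h1 v hv) (h1 v hv)).2]
    ring
  · obtain ⟨c1, c2, c3⟩ := Cfsg.Agent.S2301.result (F := F) r hr
    have hodd : Fintype.card F % 2 = 1 := FiniteField.odd_card_of_char_ne_two (by rw [ringChar.eq F r]; exact hr)
    have h8 : 2 * ((Fintype.card F ^ 2 - 1) / 2) = Fintype.card F ^ 2 - 1 := by
      have : Fintype.card F ^ 2 % 2 = 1 := by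
        rw [Nat.pow_mod, hodd]
      omega
    by_cases hS : S = (ConjClasses.mk v).carrier
    · refine ⟨1, Or.inl rfl, ?_⟩
      rw [hS, c2 v (h1 v hv), mul_one]
      exact h8
    · refine ⟨2, Or.inr rfl, ?_⟩
      obtain ⟨u, hu, huv⟩ : ∃ u ∈ S, u ∉ (ConjClasses.mk v).carrier := by
        by_contra hcon
        push Not at hcon
        exact hS (Set.Subset.antisymm hcon (hcl v hv))
      have hne : ConjClasses.mk u ≠ ConjClasses.mk v := by
        intro h
        exact huv (ConjClasses.mem_carrier_iff_mk_eq.2 h)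
      have hS2 : S = (ConjClasses.mk v).carrier ∪ (ConjClasses.mk u).carrier := by
        apply Set.Subset.antisymm _ (Set.union_subset (hcl v hv) (hcl u hu))
        intro w hw
        by_contra hcon
        rw [Set.mem_union, not_or, ConjClasses.mem_carrier_iff_mk_eq, ConjClasses.mem_carrier_iff_mk_eq] at hcon
        have h5 : ({ConjClasses.mk v, ConjClasses.mk u, ConjClasses.mk w} : Finset (ConjClasses SL)).card = 3 := by
          rw [Finset.card_eq_three]
          exact ⟨_, _, _, hne.symm, fun h => hcon.1 h.symm, fun h => hcon.2 h.symm, rfl⟩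
        have h6 : ({ConjClasses.mk v, ConjClasses.mk u, ConjClasses.mk w} : Finset (ConjClasses SL)).card ≤
            Nat.card {C : ConjClasses SL // ∃ g : SL, orderOf g = r ∧ ConjClasses.mk g = C} := by
          have h7 : ((({ConjClasses.mk v, ConjClasses.mk u, ConjClasses.mk w} : Finset (ConjClasses SL)) :
              Set (ConjClasses SL))) ⊆ {C : ConjClasses SL | ∃ g : SL, orderOf g = r ∧ ConjClasses.mk g = C} := by
            intro C hC
            simp only [Finset.coe_insert, Finset.coe_singleton, Set.mem_insert_iff, Set.mem_singleton_iff] at hC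
            rcases hC with rfl | rfl | rfl
            · exact ⟨v, h1 v hv, rfl⟩
            · exact ⟨u, h1 u hu, rfl⟩
            · exact ⟨w, h1 w hw, rfl⟩
          have h9 := Set.ncard_le_ncard h7 (Set.toFinite _)
          rw [Set.ncard_coe_finset] at h9
          exact h9
        omega
      have hdisj : Disjoint (ConjClasses.mk v).carrier (ConjClasses.mk u).carrier := by
        rw [Set.disjoint_left]
        intro w hw hw'
        rw [ConjClasses.mem_carrier_iff_mk_eq] at hw hw'
        exact hne (hw'.symm.trans hw)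
      rw [hS2, Nat.card_coe_set_eq, Set.ncard_union_eq hdisj, ← Nat.card_coe_set_eq, ← Nat.card_coe_set_eq,
        c2 v (h1 v hv), c2 u (h1 u hu)]
      omega

end Cfsg.Agent.H287.SC.SLU
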