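import Cfsg.Agent.H428.NBL.Eng
import Cfsg.Agent.H428.NBL.ExcCh
import Cfsg.Agent.H788.NB.Rows
import Cfsg.Agent.H316.Ab.G2Row
import Cfsg.Agent.H661.SC.Base
import Cfsg.Agent.S1059
import Cfsg.Agent.S1067
import Cfsg.Agent.S1106
import Cfsg.Agent.S1088

/-!
# `IMC p` from the long root elements (helper287, for S4526)

`imc_star` : `R` a root group datum in characteristic `r`, `a` a dominant root with `LR R a`, `p ≠ r` not dividing
`|⟨X a, X (-a)⟩|`, `p` divides the index of the parabolic subgroup of `a`; then `IMC p Y`.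
-/

set_option autoImplicit false
set_option linter.unusedSectionVars false

namespace Cfsg.Agent.H287.SC

open CoxeterSystem Cfsg.Agent.ChevalleyStructure.CoxeterGeom Cfsg.Agent.Tits.Roots Cfsg.Agent.Tits.Core
  Cfsg.Agent.Tits.RootComb Cfsg.Agent.Tits.Exchange Cfsg.Agent.Nodes.Reps Cfsg.Agent.Nodes.BNOf
  Cfsg.Agent.Nodes.StabComb Cfsg.Agent.Nodes.Bruhat Cfsg.Agent.Nodes.OppDec Cfsg.Agent.Nodes.LeviDec
  Cfsg.Agent.Nodes.NormX Cfsg.Agent.Nodes.Coroot Cfsg.Agent.KFacts.RgdPar Cfsg.Agent.KFacts.RgdSL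
  Cfsg.Agent.KFacts.RgdTI Cfsg.Agent.H7.NBp Cfsg.Agent.Nodes.PosPair
open Cfsg.Agent.H625.SylConst Cfsg.Agent.H661.SC Cfsg.Agent.H428.NBL

section Gen

variable {I W Y : Type*} [Fintype I] [DecidableEq I] [Group W] [Group Y] {M : CoxeterMatrix I}
  {cs : CoxeterSystem M W} {A : I → I → ℤ} {h : IsCartan M A} {r : ℕ} {T : Subgroup Y} {n : I → Y}
  {X : (I → ℤ) → Subgroup Y}

/-- **`IMC p` from the long root elements.** -/
theorem imc_star [Finite W] [Finite Y] (R : RGD cs h r T n X) {p : ℕ} [hp : Fact p.Prime] [hr : Fact r.Prime]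
    (hpr : p ≠ r) {a : I → ℤ} (L : LR R a) (hG : GG cs h T X = ⊤) (hJ : ¬ p ∣ Nat.card ↥(X a ⊔ X (-a)))
    (hP : p ∣ (PS T X (Ge cs h a)).index) : IMC p Y := by
  obtain ⟨⟨s, hs⟩, hs1⟩ := (Subgroup.ne_bot_iff_exists_ne_one).1 (X_ne_bot R L.root)
  have hs1' : s ≠ 1 := fun h0 => hs1 (Subtype.ext h0)
  refine imc_of_quotients (s := s) ?_ ?_
  · refine hP.trans (Subgroup.index_dvd_of_le ?_)
    intro g hg
    rw [Subgroup.mem_centralizer_singleton_iff] at hg
    exact L.le_PS_of_comm (by rw [hG]; exact Subgroup.mem_top g) hs hs1' hg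
  · intro g k hg hk hj
    obtain ⟨c, rfl⟩ := isConj_iff.1 hg
    obtain ⟨d, rfl⟩ := isConj_iff.1 hk
    obtain ⟨j, hj⟩ := hj
    have h1 := uniq R hpr L hG hJ hs hs1' (k := c⁻¹ * (d * s * d⁻¹) * c) ⟨c⁻¹ * d, s, hs, hs1', by group⟩ (j := j) (by
      have h2 : (c * s * c⁻¹ * (d * s * d⁻¹)⁻¹) ^ p ^ j = 1 := by rw [← hj]; exact pow_orderOf_eq_one _
      have h3 : s * (c⁻¹ * (d * s * d⁻¹) * c)⁻¹ = c⁻¹ * (c * s * c⁻¹ * (d * s * d⁻¹)⁻¹) * c⁻¹⁻¹ := by group
      rw [h3, conj_pow, h2]; group)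
    have h2 : d * s * d⁻¹ = c * s * c⁻¹ := by
      conv_rhs => rw [← h1]
      group
    exact h2.symm

theorem card_sup_rep [Finite W] (R : RGD cs h r T n X) {a : I → ℤ} (ha : IsRoot cs h a) (w : W) :
    Nat.card ↥(X (rep cs h w a) ⊔ X (-rep cs h w a)) = Nat.card ↥(X a ⊔ X (-a)) := by
  obtain ⟨m, hm⟩ := exists_rp cs R.nsys w
  have e1 : cj m (X a) = X (rep cs h w a) := R.conj_rp hm ha
  have e2 : cj m (X (-a)) = X (-rep cs h w a) := by
    rw [R.conj_rp hm ha.neg, map_neg]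
  rw [← e1, ← e2, ← cj_sup, Nodes.CardSup.card_cj]

theorem ne_univ [Finite W] {a : I → ℤ} (ha : IsRoot cs h a) : {i | ell cs h ha (sr i) = 0} ≠ Set.univ := by
  intro he
  have h1 : ∀ i, ell cs h ha (sr i) = 0 := fun i => by
    have : i ∈ {i | ell cs h ha (sr i) = 0} := by rw [he]; exact Set.mem_univ i
    exact this
  have h2 : ell cs h ha a = 0 := by
    have e : a = ∑ i, a i • (sr i : I → ℤ) := by
      funext j
      simp [sr, Finset.sum_apply, Pi.single_apply]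
    have e2 : ell cs h ha a = ell cs h ha (∑ i, a i • sr i) := congrArg (ell cs h ha) e
    rw [e2, map_sum]
    refine Finset.sum_eq_zero fun i _ => ?_
    rw [map_zsmul, h1, smul_zero]
  have h3 : ell cs h ha a = 2 := cpr_self cs h ha
  rw [h2] at h3
  exact absurd h3 (by norm_num)

end Gen

open Cfsg Cfsg.Lie Cfsg.Agent.ChevalleyStructure Cfsg.Agent.ChevalleyStructure.Elts
  Cfsg.Agent.ChevalleyStructure.TwistedU
open Cfsg.Agent.Nodes Cfsg.Agent.Nodes.RGDChev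
  Cfsg.Agent.Nodes.RGDTwGen Cfsg.Agent.Nodes.RGDFold Cfsg.Agent.Nodes.RGDFoldSL Cfsg.Agent.Nodes.RGDTwCoord
open Cfsg.Agent.H788.NB (not_dvd_sl2)

/-- **`G₂(q)`, `p ∤ q (q² - 1)`** -/
theorem G2.imc_big {F : Type} [Field F] [Fintype F] {p : ℕ} [hpf : Fact p.Prime] (h1 : ¬ p ∣ Fintype.card F)
    (h2 : ¬ p ∣ Fintype.card F ^ 2 - 1) (hd : p ∣ Nat.card ↥(chevG2.group F)) : IMC p ↥(chevG2.group F) := by
  classical
  obtain ⟨r, hr, hcp⟩ : ∃ p : ℕ, p.Prime ∧ CharP F p := by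
    obtain ⟨p, hcp⟩ := CharP.exists F
    exact ⟨p, CharP.char_is_prime F p, hcp⟩
  have : Fact r.Prime := ⟨hr⟩
  set q := Fintype.card F with hq
  have hq1 : 1 < q := Fintype.one_lt_card
  have hpr : p ≠ r := by
    rintro rfl
    apply h1
    obtain ⟨n, -, hn⟩ := FiniteField.card F p
    rw [hq, hn]
    exact dvd_pow_self p n.ne_zero
  let cs := CoxeterMatrix.G₂.toCoxeterSystem
  have hT : IsType chevG2 2 CoxeterMatrix.G₂ := by simp [IsType, typeList]
  have hW : Finite CoxeterMatrix.G₂.Group := finite_W hT cs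
  have hcard := S1059.result (F := F) hq.symm
  have R := rgd (K := F) hT cs r
  have L : LR (rgd (K := F) hT cs r) (sr (1 : Fin 2)) :=
    H225.PPow.lr_tab hT cs r (d := 0) (dvd_zero _) H225.PPow.lrG2_1
  have hG := H35.ExcIdx.GG_eq_top hT F cs
  obtain ⟨w, hw⟩ := L.exists_dominant
  have L' := L.act w
  refine imc_star (rgd (K := F) hT cs r) hpr L' hG ?_ ?_
  · rw [card_sup_rep (rgd (K := F) hT cs r) L.root w]
    have h3 := H428.NBL.range_phi hT F 1
    rw [← h3]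
    exact not_dvd_sl2 hpf.out _ h1 h2
  · have h3 : PS (H35.ExcIdx.TT chevG2 F) (H35.ExcIdx.XX chevG2 2 F) (Ge cs hT.isCartan (rep cs hT.isCartan w (sr (1 : Fin 2)))) =
        PJ cs hT.isCartan (H35.ExcIdx.TT chevG2 F) (H35.ExcIdx.XX chevG2 2 F)
          {i | ell cs hT.isCartan L'.root (sr i) = 0} := PS_half_of_dom (f := ell cs hT.isCartan L'.root) hw
    obtain ⟨k, hk⟩ := IsPGroup.iff_card.1 (rgd (K := F) hT cs r).isPGroup_Upos
    have hT2 : Nat.card ↥(H35.ExcIdx.TT chevG2 F) = (q - 1) ^ 2 := by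
      have h5 : Nat.card (H35.ExcIdx.TT chevG2 F) = Nat.card (chevG2.diagonalSubgroup F) :=
        Nat.card_congr (Subgroup.subgroupOfEquivOfLe (diagonal_le_group hT.inList F)).toEquiv
      have h6 : 1 * Nat.card (chevG2.diagonalSubgroup F) = (q - 1) ^ 2 := S1035.result hq.symm (chevG2, 1) (by simp)
      rw [h5, ← one_mul (Nat.card (chevG2.diagonalSubgroup F)), h6]
    have hsq : q ^ 2 - 1 = (q - 1) * (q + 1) := by
      obtain ⟨m, hm⟩ : ∃ m, q = m + 1 := ⟨q - 1, by omega⟩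
      rw [hm]
      have e1 : (m + 1) ^ 2 = m * (m + 1 + 1) + 1 := by ring
      rw [e1, Nat.add_sub_cancel, Nat.add_sub_cancel]
    have hB : ¬ p ∣ Nat.card ↥(RGD.Sup (H35.ExcIdx.XX chevG2 2 F) (RGD.Pos cs hT.isCartan)) *
        Nat.card ↥(H35.ExcIdx.TT chevG2 F) := by
      rw [hT2, hk, hpf.out.dvd_mul]
      rintro (h7 | h7)
      · exact hpr ((Nat.prime_dvd_prime_iff_eq hpf.out hr).1 (hpf.out.dvd_of_dvd_pow h7))
      · exact h2 (by rw [hsq]; exact (hpf.out.dvd_of_dvd_pow h7).mul_right _)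
    have hPJ : ∀ J : Set (Fin 2), J ≠ Set.univ →
        ¬ p ∣ Nat.card ↥(PJ cs hT.isCartan (H35.ExcIdx.TT chevG2 F) (H35.ExcIdx.XX chevG2 2 F) J) := by
      intro J hJ
      by_cases h0 : J = ∅
      · rw [h0, H35.Poin.PJ_empty, H35.Poin.card_B' (rgd (K := F) hT cs r)]
        exact hB
      · obtain ⟨i, hi⟩ := Set.nonempty_iff_ne_empty.2 h0
        have h1 : J = {i} := by
          ext j
          rw [Set.mem_singleton_iff]
          constructor
          · intro hj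
            by_contra hji
            apply hJ
            ext t
            simp only [Set.mem_univ, iff_true]
            have : t = i ∨ t = j := by omega
            rcases this with rfl | rfl
            · exact hi
            · exact hj
          · rintro rfl
            exact hi
        have hX : Nat.card ↥(H35.ExcIdx.XX chevG2 2 F (sr i)) = q := by
          rw [H35.ExcIdx.card_XX hT F cs (isRoot_sr cs hT.isCartan i), Nat.card_eq_fintype_card]
        rw [h1, H316.Ab.G2Row.card_PJ_single (rgd (K := F) hT cs r) i hX, hpf.out.dvd_mul]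
        rintro (h7 | h7)
        · exact h2 (by rw [hsq, add_comm q 1]; exact h7.mul_left _)
        · exact hB h7
    have h4 := hPJ _ (ne_univ (h := hT.isCartan) L'.root)
    rw [h3]
    rw [← Subgroup.card_mul_index (PJ cs hT.isCartan (H35.ExcIdx.TT chevG2 F) (H35.ExcIdx.XX chevG2 2 F)
          {i | ell cs hT.isCartan L'.root (sr i) = 0}), hpf.out.dvd_mul] at hd
    exact hd.resolve_left h4

/-- **`³D₄(q)`, `p ∤ q (q² - 1)`** -/
theorem TwD4.imc_big {K : Type} [Field K] [Fintype K] {q : ℕ} {p : ℕ} [hp : Fact p.Prime]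
    (hq : IsPrimePow q) (hK : Fintype.card K = q ^ 3) (h1 : ¬ p ∣ q) (h2 : ¬ p ∣ q ^ 2 - 1)
    (hd : p ∣ Nat.card ↥(twistedD4 K q)) : IMC p ↥(twistedD4 K q) := by
  classical
  obtain ⟨φ, hφ⟩ := D4Fixed.exists_frob hq hK
  have hf : ∀ i, ∀ s ∈ Cfsg.Agent.Nodes.RGDTwNode.D4.rep i :: Cfsg.Agent.Nodes.RGDTwNode.D4.rest i, ∀ t : K,
      ((Cfsg.Agent.Nodes.RGDTwD4.eps s : ℤ) : K) * φ t = φ t := fun i s hs t => by
    rw [Cfsg.Agent.Nodes.RGDTwNode.D4.eps_one i s hs, Int.cast_one, one_mul]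
  have hq1 : 1 < q := hq.one_lt
  obtain ⟨r, hr, hcp⟩ : ∃ p : ℕ, p.Prime ∧ CharP K p := by
    obtain ⟨p, hcp⟩ := CharP.exists K
    exact ⟨p, CharP.char_is_prime K p, hcp⟩
  have : Fact r.Prime := ⟨hr⟩
  have hpr : p ≠ r := by
    rintro rfl
    apply h1
    have h3 : p ∣ Fintype.card K := by
      obtain ⟨n, -, hn⟩ := FiniteField.card K p
      rw [hn]
      exact dvd_pow_self p n.ne_zero
    rw [hK] at h3
    exact hp.out.dvd_of_dvd_pow h3
  let cs : CoxeterSystem CoxeterMatrix.G₂ CoxeterMatrix.G₂.Group := CoxeterMatrix.G₂.toCoxeterSystem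
  have hle := D4Fixed.twisted_le_fix (K := K) hK hφ
  have FG := Cfsg.Agent.Nodes.RGDTwD4.foldGrp (K := K) hφ hle
  have FD := Cfsg.Agent.Nodes.RGDTwD4.foldData
  have N := Cfsg.Agent.Nodes.RGDTwNode.D4.nodeOK
  have h := Cfsg.Agent.Nodes.RGDTwD4.isCartan
  have : Finite CoxeterMatrix.G₂.Group := H249.PPTwD4.finiteW cs
  have R' := Cfsg.Agent.Nodes.RGDTwD4.rgd cs hK hφ r
  have L3 := H249.PPTwD4.lr3 (cs := cs) hK hφ r
  have hGG := Cfsg.Agent.KFacts.RgdRigid.GG_eq_top (cs := cs) (h := h)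
    (T := (chevD4.diagonalSubgroup K ⊓ twistedD4 K q).subgroupOf (twistedD4 K q))
    (X := fun z => (Cfsg.Agent.Nodes.RGDFold.R chevD4 Cfsg.Agent.Nodes.RGDTwD4.hp K RGDTwD4.J
      (D4Fixed.sig φ) z).subgroupOf (twistedD4 K q))
    (Cfsg.Agent.Nodes.RGDFold.G1_eq_top cs h FD FG r)
  refine imc_star R' hpr L3 hGG ?_ ?_
  · rw [← H249.PPTwD4.rep3 cs, card_sup_rep R' (isRoot_sr cs h 0)]
    have h5 := H280.ObTwE.range_eq FG N hf 0 cs h FD r
    have h6 : RGDTwD4.X φ q (sr 0) ⊔ RGDTwD4.X φ q (-sr 0) = (Phi FG (N 0) (hf 0)).range := h5.symm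
    rw [h6]
    let _ : Fintype (Fx φ ((Cfsg.Agent.Nodes.RGDTwNode.D4.rest 0).length + 1)) := Fintype.ofFinite _
    have hc : Fintype.card (Fx φ ((Cfsg.Agent.Nodes.RGDTwNode.D4.rest 0).length + 1)) = q := by
      rw [← Nat.card_eq_fintype_card, ← FixedCard.card_fixed hq1 hK]
      refine Nat.card_congr (Equiv.subtypeEquivRight fun t => ?_)
      rw [mem_Fx]
      show φ t = t ↔ _
      rw [hφ]
    exact not_dvd_sl2 hp.out _ (by rw [hc]; exact h1) (by rw [hc]; exact h2)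
  · have hw : ∀ i, 0 ≤ ell cs h L3.root (sr i) := by
      intro i
      show 0 ≤ cpr cs h (sr i) H249.PPTwD4.z3
      rw [H249.PPTwD4.cpr3]
      fin_cases i <;> decide
    have h3 : PS (RGDTwD4.T K q) (RGDTwD4.X φ q) (Ge cs h H249.PPTwD4.z3) =
        PJ cs h (RGDTwD4.T K q) (RGDTwD4.X φ q) {i | ell cs h L3.root (sr i) = 0} :=
      PS_half_of_dom (f := ell cs h L3.root) hw
    have h4 : {i | ell cs h L3.root (sr i) = 0} = {1} := by
      ext i
      show cpr cs h (sr i) H249.PPTwD4.z3 = 0 ↔ i = 1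
      rw [H249.PPTwD4.cpr3]
      fin_cases i <;> decide
    obtain ⟨k, hk⟩ := IsPGroup.iff_card.1 R'.isPGroup_Upos
    have hT : Nat.card ↥(RGDTwD4.T K q) = (q - 1) ^ 2 * (q ^ 2 + q + 1) := by
      rw [← S1106.result hq hK]
      exact Nat.card_congr (Subgroup.subgroupOfEquivOfLe inf_le_right).toEquiv
    have hX : Nat.card ↥(RGDTwD4.X φ q (sr 1)) = q ^ 3 := by
      have h5 : Nat.card ↥(Fx φ ((Cfsg.Agent.Nodes.RGDTwNode.D4.rest 1).length + 1)) = q ^ 3 := by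
        rw [← hK, ← Nat.card_eq_fintype_card]
        refine Nat.card_congr (Equiv.subtypeUnivEquiv fun x => mem_Fx.2 ?_)
        show φ (φ (φ x)) = x
        rw [hφ, hφ, hφ, ← pow_mul, ← pow_mul]
        have : q * (q * q) = q ^ 3 := by ring
        rw [this, ← hK]
        exact FiniteField.pow_card x
      rw [← h5]
      have hmem : ∀ g, g ∈ RGDTwD4.X φ q (sr 1) ↔ ∃ a, g = Phi FG (N 1) (hf 1) (SL2Hom.up a) :=
        mem_X_iff FG (N 1) (hf 1)
      refine (Nat.card_congr (Equiv.ofBijective (fun a => (⟨Phi FG (N 1) (hf 1) (SL2Hom.up a),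
        (hmem _).2 ⟨a, rfl⟩⟩ : ↥(RGDTwD4.X φ q (sr 1)))) ⟨?_, ?_⟩)).symm
      · intro s t h
        exact Phi_up_injective FG (N 1) (hf 1) (congrArg Subtype.val h)
      · rintro ⟨u, hu⟩
        obtain ⟨t, ht⟩ := (hmem _).1 hu
        exact ⟨t, Subtype.ext ht.symm⟩
    have h5 := H316.Ab.G2Row.card_PJ_single R' 1 hX
    rw [hk, hT] at h5
    have h6 := Subgroup.card_mul_index (PJ cs h (RGDTwD4.T K q) (RGDTwD4.X φ q) {1})
    rw [S1067.result hq hK] at h6
    rw [h5] at h6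
    rw [S1067.result hq hK] at hd
    rw [h3, h4]
    -- `p ∣ q ^ 8 + q ^ 4 + 1`
    obtain ⟨m, hm⟩ : ∃ m, q = m + 1 := ⟨q - 1, by omega⟩
    have e2 : q ^ 2 - 1 = m * (m + 2) := by
      rw [hm]
      have : (m + 1) ^ 2 = m * (m + 2) + 1 := by ring
      rw [this, Nat.add_sub_cancel]
    have e6 : q ^ 6 - 1 = m * (m + 2) * (q ^ 4 + q ^ 2 + 1) := by
      rw [hm]
      have : (m + 1) ^ 6 = m * (m + 2) * ((m + 1) ^ 4 + (m + 1) ^ 2 + 1) + 1 := by ring
      rw [this, Nat.add_sub_cancel]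
    have e8 : q ^ 8 + q ^ 4 + 1 = (q ^ 4 + q ^ 2 + 1) * (q ^ 4 - q ^ 2 + 1) := by
      have h7 : q ^ 2 ≤ q ^ 4 := Nat.pow_le_pow_right (by omega) (by norm_num)
      zify [h7]
      ring
    have h8 : p ∣ q ^ 8 + q ^ 4 + 1 := by
      rcases hp.out.dvd_mul.1 hd with h9 | h9
      · rcases hp.out.dvd_mul.1 h9 with h10 | h10
        · rcases hp.out.dvd_mul.1 h10 with h11 | h11
          · exact absurd (hp.out.dvd_of_dvd_pow h11) h1
          · exact absurd h11 h2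
        · rw [e6] at h10
          rcases hp.out.dvd_mul.1 h10 with h11 | h11
          · exact absurd (by rw [e2]; exact h11) h2
          · rw [e8]; exact h11.mul_right _
      · exact h9
    -- the index
    have h9 : q - 1 = m := by omega
    have h10 : (1 + q ^ 3) * (r ^ k * ((q - 1) ^ 2 * (q ^ 2 + q + 1))) *
        (PJ cs h (RGDTwD4.T K q) (RGDTwD4.X φ q) {1}).index =
        (1 + q ^ 3) * ((q - 1) ^ 2 * (q ^ 2 + q + 1)) * (q ^ 12 * (q + 1) * (q ^ 8 + q ^ 4 + 1)) := by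
      rw [h6, e2, e6, h9, hm]
      ring
    have h11 : 0 < (1 + q ^ 3) * ((q - 1) ^ 2 * (q ^ 2 + q + 1)) := by
      have : 0 < q - 1 := by omega
      positivity
    have h12 : r ^ k * (PJ cs h (RGDTwD4.T K q) (RGDTwD4.X φ q) {1}).index =
        q ^ 12 * (q + 1) * (q ^ 8 + q ^ 4 + 1) := by
      apply Nat.eq_of_mul_eq_mul_left h11
      rw [← h10]
      ring
    have h13 : p ∣ r ^ k * (PJ cs h (RGDTwD4.T K q) (RGDTwD4.X φ q) {1}).index := by
      rw [h12]; exact h8.mul_left _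
    rcases hp.out.dvd_mul.1 h13 with h14 | h14
    · exact absurd ((Nat.prime_dvd_prime_iff_eq hp.out hr).1 (hp.out.dvd_of_dvd_pow h14)) hpr
    · exact h14

end Cfsg.Agent.H287.SC
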